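/-
The model of type M(23) on the presented group Fi23.
-/
import Cfsg.Agent.Lib.FischerExist.M23
import Cfsg.Agent.Lib.FischerM23.Local

set_option autoImplicit false

namespace Cfsg.Agent.TransCentFi23

open Cfsg.Agent.ThreeTrans
open Cfsg.Agent.CosetEnum

/-- The presented group Fi23 with its transpositions is a group of type M(23). -/
theorem model : ∃ (B : Type) (_ : Group B) (_ : Finite B) (DB : Set B), FischerM23.Fi23Setup DB := by
  haveI := Fi23Trans.fi23_finite
  exact ⟨fi23Setup.G, inferInstance, inferInstance, Fi23Trans.classD, FischerM23.setup_of_primitive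
    (group_of_class Fi23Trans.isThreeTranspositionClass) FischerExist.prim23 FischerExist.type23⟩

end Cfsg.Agent.TransCentFi23
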