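/-
An involution `d` whose centraliser is a double cover of a group of type M(22): the conjugates of `d`
commuting with it are `d` and one lift of each transposition, and they generate the centraliser.
-/
import Cfsg.Agent.Lib.M22Cover.Main
import Cfsg.Agent.Lib.M22Cover.Orbit

set_option autoImplicit false
set_option linter.unusedSectionVars false

namespace Cfsg.Agent.TransCentFi23

open Cfsg.Agent.ThreeTrans Cfsg.Agent.FischerM22 Cfsg.Agent.M22Cover

/-- The neighbours of `a` carried to a class `E`. -/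
structure NbrModel {Γ G : Type*} [Group Γ] [Group G] (D : Set Γ) (a : Γ) (π : Γ → G) (E : Set G) : Prop where
  inj : Set.InjOn π (adj D a)
  image : π '' adj D a = E
  comm : ∀ x ∈ adj D a, ∀ y ∈ adj D a, (Commute (π x) (π y) ↔ Commute x y)
  braid : ∀ x ∈ adj D a, ∀ y ∈ adj D a, ¬ Commute x y → x * y * x = y * x * y

variable {Γ : Type*} [Group Γ] [Finite Γ] {G : Type*} [Group G] [Finite G] {E B : Set G} {d : Γ}
  {ψ : ↥(Subgroup.centralizer ({d} : Set Γ)) →* G} {δ : ↥(Subgroup.centralizer ({d} : Set Γ))}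

/-- One conjugate over each member, none over the products of two or three. -/
theorem fib_counts (K : Ctx ψ δ E B) (hperf : commutator ↥(Subgroup.centralizer ({d} : Set Γ)) = ⊤)
    (hnwc : ∃ g : Γ, g * d * g⁻¹ ∈ Subgroup.centralizer ({d} : Set Γ) ∧ g * d * g⁻¹ ≠ d) :
    (∀ a ∈ E, (fib ψ a).ncard = 1) ∧ (∀ x, IsProd E 2 x → fib ψ x = ∅) ∧
      ∀ x, IsProd E 3 x → fib ψ x = ∅ := by
  obtain ⟨a, ha⟩ := Set.nonempty_of_ncard_ne_zero (s := B) (by rw [K.base.card]; norm_num)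
  obtain ⟨x, hx⟩ := Set.nonempty_of_ncard_ne_zero (s := pairSet B) (by rw [pairSet_ncard K.S K.base]; norm_num)
  obtain ⟨t, ht⟩ := Set.nonempty_of_ncard_ne_zero (s := tripleSet B)
    (by rw [tripleSet_ncard K.S K.base]; norm_num)
  have hn := K.count (fun a' h => K.fib_D (K.base.sub ha) (K.base.sub h))
    (fun x' h => K.fib_pair (isProd_of_pairSet K.base hx) (isProd_of_pairSet K.base h))
    (fun t' h => K.fib_triple (isProd_of_tripleSet K.base ht) (isProd_of_tripleSet K.base h))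
  rw [K.omega_ncard hperf hnwc] at hn
  refine ⟨fun a' ha' => ?_, fun x' hx' => ?_, fun t' ht' => ?_⟩
  · rw [K.fib_D (K.base.sub ha) ha']; omega
  · rw [← Set.ncard_eq_zero (Set.toFinite _), K.fib_pair (isProd_of_pairSet K.base hx) hx']; omega
  · rw [← Set.ncard_eq_zero (Set.toFinite _), K.fib_triple (isProd_of_tripleSet K.base ht) ht']; omega

/-- A conjugate of `d` in its centraliser is `d` or lies over a member. -/
theorem member_of_conj (K : Ctx ψ δ E B) (hperf : commutator ↥(Subgroup.centralizer ({d} : Set Γ)) = ⊤)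
    (hnwc : ∃ g : Γ, g * d * g⁻¹ ∈ Subgroup.centralizer ({d} : Set Γ) ∧ g * d * g⁻¹ ≠ d)
    {y : ↥(Subgroup.centralizer ({d} : Set Γ))} (hy : IsConj d (y : Γ)) (hne : y ≠ δ) : ψ y ∈ E := by
  obtain ⟨-, h2, h3⟩ := fib_counts K hperf hnwc
  obtain ⟨g, hg⟩ := isConj_iff.1 hy
  have hd2 : d * d = 1 := by rw [← K.hδ]; exact congrArg Subtype.val K.X.sq
  have hy2 : y * y = 1 := by
    refine Subtype.ext ?_
    show (y : Γ) * y = 1
    rw [← hg]
    calc g * d * g⁻¹ * (g * d * g⁻¹) = g * (d * d) * g⁻¹ := by group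
      _ = 1 := by rw [hd2, mul_one, mul_inv_cancel]
  have h1 : ψ y ≠ 1 := fun h => by
    rcases (K.X.ker y).1 h with rfl | rfl
    · exact K.d_ne_one (conj_eq_one_iff.1 hg)
    · exact hne rfl
  obtain ⟨m, hm1, hm3, hm⟩ := involution_prod K.S (by rw [← map_mul, hy2, map_one]) h1
  have hmem : y ∈ fib ψ (ψ y) := ⟨rfl, hy⟩
  rcases (by omega : m = 1 ∨ m = 2 ∨ m = 3) with rfl | rfl | rfl
  · obtain ⟨l, -, hl, hsub, -, he⟩ := hm
    obtain ⟨a, rfl⟩ := List.length_eq_one_iff.1 hl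
    rw [← he]
    simpa using hsub a (by simp)
  · rw [h2 _ hm] at hmem; exact hmem.elim
  · rw [h3 _ hm] at hmem; exact hmem.elim

open Classical in
/-- The map of the centraliser extended to the whole group. -/
noncomputable def ext (ψ : ↥(Subgroup.centralizer ({d} : Set Γ)) →* G) (x : Γ) : G :=
  if h : x ∈ Subgroup.centralizer ({d} : Set Γ) then ψ ⟨x, h⟩ else 1

theorem ext_coe (y : ↥(Subgroup.centralizer ({d} : Set Γ))) : ext ψ (y : Γ) = ψ y := dif_pos y.2

/-- The local picture at `d`. -/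
theorem local_model (X : Ext ψ δ) (S : Fi22Setup E) (hδ : (δ : Γ) = d)
    (hperf : commutator ↥(Subgroup.centralizer ({d} : Set Γ)) = ⊤)
    (hnwc : ∃ g : Γ, g * d * g⁻¹ ∈ Subgroup.centralizer ({d} : Set Γ) ∧ g * d * g⁻¹ ≠ d) :
    NbrModel (conjugatesOf d) d (ext ψ) E ∧
      Loc (conjugatesOf d) d = Subgroup.centralizer ({d} : Set Γ) := by
  obtain ⟨B, hB, -⟩ := M22Cover.exists_base S (Set.empty_subset E) (by simp)
  have K : Ctx ψ δ E B := ⟨X, S, hδ, hB, (lifts X S hδ hnwc).1⟩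
  obtain ⟨hone, -, -⟩ := fib_counts K hperf hnwc
  have lift : ∀ x ∈ adj (conjugatesOf d) d, ∃ y : ↥(Subgroup.centralizer ({d} : Set Γ)), (y : Γ) = x ∧ ψ y ∈ E := by
    rintro x ⟨hx, hne, hc⟩
    have hxC : x ∈ (Subgroup.centralizer ({d} : Set Γ)) := Subgroup.mem_centralizer_singleton_iff.2 hc.symm.eq
    refine ⟨⟨x, hxC⟩, rfl, member_of_conj K hperf hnwc (y := ⟨x, hxC⟩) hx fun h => hne ?_⟩
    rw [← hδ]; exact congrArg Subtype.val h
  have uniq : ∀ y z : ↥(Subgroup.centralizer ({d} : Set Γ)), IsConj d (y : Γ) → IsConj d (z : Γ) → ψ y ∈ E → ψ y = ψ z → y = z := by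
    intro y z hy hz hE e
    obtain ⟨w, hw⟩ := Set.ncard_eq_one.1 (hone _ hE)
    have h1 : y ∈ fib ψ (ψ y) := ⟨rfl, hy⟩
    have h2 : z ∈ fib ψ (ψ y) := ⟨e.symm, hz⟩
    rw [hw, Set.mem_singleton_iff] at h1 h2
    rw [h1, h2]
  have mem : ∀ y : ↥(Subgroup.centralizer ({d} : Set Γ)), IsConj d (y : Γ) → ψ y ∈ E → (y : Γ) ∈ adj (conjugatesOf d) d := by
    intro y hy hE
    refine ⟨hy, fun h => ThreeTrans.ne_one S.cls.1 hE ?_, (Subgroup.mem_centralizer_singleton_iff.1 y.2).symm⟩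
    exact (X.ker y).2 (Or.inr (Subtype.ext (h.trans hδ.symm)))
  refine ⟨⟨?_, ?_, ?_, ?_⟩, ?_⟩
  · intro x hx x' hx' e
    obtain ⟨y, rfl, hy⟩ := lift x hx
    obtain ⟨z, rfl, -⟩ := lift x' hx'
    rw [ext_coe, ext_coe] at e
    exact congrArg Subtype.val (uniq y z hx.1 hx'.1 hy e)
  · ext e
    constructor
    · rintro ⟨x, hx, rfl⟩
      obtain ⟨y, rfl, hy⟩ := lift x hx
      rw [ext_coe]; exact hy
    · intro he
      obtain ⟨w, hw⟩ := Set.ncard_eq_one.1 (hone e he)
      obtain ⟨h1, h2⟩ : w ∈ fib ψ e := hw ▸ rfl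
      exact ⟨w, mem w h2 (h1 ▸ he), (ext_coe w).trans h1⟩
  · intro x hx x' hx'
    obtain ⟨y, rfl, hy⟩ := lift x hx
    obtain ⟨z, rfl, -⟩ := lift x' hx'
    rw [ext_coe, ext_coe]
    exact ⟨fun h => (commute_lift X S hy h.symm).map (Subgroup.centralizer ({d} : Set Γ)).subtype, fun h =>
      (show Commute y z from Subtype.ext h).map ψ⟩
  · intro x hx x' hx' hn
    obtain ⟨y, rfl, hy⟩ := lift x hx
    obtain ⟨z, rfl, hz⟩ := lift x' hx'
    have hn' : ¬ Commute (ψ y) (ψ z) := fun h => hn ((commute_lift X S hy h.symm).map (Subgroup.centralizer ({d} : Set Γ)).subtype)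
    have hd2 : d * d = 1 := by rw [← hδ]; exact congrArg Subtype.val X.sq
    have inv : ∀ {u : Γ}, IsConj d u → u⁻¹ = u := fun {u} hu => by
      obtain ⟨g, rfl⟩ := isConj_iff.1 hu
      refine inv_eq_of_mul_eq_one_left ?_
      calc g * d * g⁻¹ * (g * d * g⁻¹) = g * (d * d) * g⁻¹ := by group
        _ = 1 := by rw [hd2, mul_one, mul_inv_cancel]
    have cj : ∀ (u : Γ) {v : Γ}, IsConj d v → IsConj d (u * v * u⁻¹) := fun u {v} hv =>
      hv.trans (isConj_iff.2 ⟨u, rfl⟩)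
    have c1 : IsConj d ((y * z * y : ↥(Subgroup.centralizer ({d} : Set Γ))) : Γ) := by
      have h : IsConj d ((y : Γ) * z * (y : Γ)⁻¹) := cj _ hx'.1
      rw [inv hx.1] at h
      exact h
    have c2 : IsConj d ((z * y * z : ↥(Subgroup.centralizer ({d} : Set Γ))) : Γ) := by
      have h : IsConj d ((z : Γ) * y * (z : Γ)⁻¹) := cj _ hx.1
      rw [inv hx'.1] at h
      exact h
    have e : ψ (y * z * y) = ψ (z * y * z) := by
      simp only [map_mul]
      exact ThreeTrans.braid S.cls.1 hy hz hn'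
    have hin : ψ (y * z * y) ∈ E := by
      simp only [map_mul]
      exact ThreeTrans.conj_mem S.cls.1 S.grp.2.1 hy hz
    exact congrArg Subtype.val (uniq _ _ c1 c2 hin e)
  · refine le_antisymm ((Subgroup.closure_le _).2 fun x hx =>
      Subgroup.mem_centralizer_singleton_iff.2 hx.2.2.symm.eq) ?_
    set L : Subgroup ↥(Subgroup.centralizer ({d} : Set Γ)) := (Loc (conjugatesOf d) d).subgroupOf (Subgroup.centralizer ({d} : Set Γ)) with hL
    have hmap : L.map ψ = ⊤ := by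
      rw [← top_le_iff, ← S.cls.2.2, Subgroup.closure_le]
      intro e he
      obtain ⟨w, hw⟩ := Set.ncard_eq_one.1 (hone e he)
      obtain ⟨h1, h2⟩ : w ∈ fib ψ e := hw ▸ rfl
      exact ⟨w, Subgroup.subset_closure (mem w h2 (h1 ▸ he)), h1⟩
    have key : ∀ y : ↥(Subgroup.centralizer ({d} : Set Γ)), ∃ l ∈ L, y = l ∨ y = l * δ := fun y => by
      obtain ⟨l, hl, e⟩ : ψ y ∈ L.map ψ := hmap ▸ Subgroup.mem_top _
      exact ⟨l, hl, X.fibre e⟩
    have hle : commutator ↥(Subgroup.centralizer ({d} : Set Γ)) ≤ L := by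
      rw [commutator_def, Subgroup.commutator_le]
      intro u _ v _
      obtain ⟨l, hl, hu⟩ := key u
      obtain ⟨m, hm, hv⟩ := key v
      have left : ∀ p q : ↥(Subgroup.centralizer ({d} : Set Γ)),
          p * δ * q * (p * δ)⁻¹ = p * q * p⁻¹ := fun p q => by
        rw [mul_inv_rev, mul_assoc p δ q, (X.central q).eq]
        group
      have right : ∀ p q : ↥(Subgroup.centralizer ({d} : Set Γ)),
          p * (q * δ) * p⁻¹ * (q * δ)⁻¹ = p * q * p⁻¹ * q⁻¹ := fun p q => by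
        rw [mul_inv_rev, ← mul_assoc p q δ, mul_assoc (p * q) δ p⁻¹, (X.central p⁻¹).eq]
        group
      have e : u * v * u⁻¹ * v⁻¹ = l * m * l⁻¹ * m⁻¹ := by
        rcases hu with rfl | rfl <;> rcases hv with rfl | rfl
        · rfl
        · exact right _ _
        · rw [left]
        · rw [left, right]
      show u * v * u⁻¹ * v⁻¹ ∈ L
      rw [e]
      exact mul_mem (mul_mem (mul_mem hl hm) (inv_mem hl)) (inv_mem hm)
    rw [hperf] at hle
    intro x hx
    exact hle (Subgroup.mem_top (⟨x, hx⟩ : ↥(Subgroup.centralizer ({d} : Set Γ))))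

end Cfsg.Agent.TransCentFi23
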