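/-
The commuting graph of a class of involutions with the local picture of type M(23): a component has
diameter two, its members form a class of 3-transpositions of the group they generate, and this group
contains the centralisers of its members.
-/
import Cfsg.Agent.Lib.TransCentFi23.Fusion
import Cfsg.Agent.Lib.FischerM23.Quot
import Cfsg.Agent.Lib.FischerM22.Total

set_option autoImplicit false
set_option linter.unusedSectionVars false

namespace Cfsg.Agent.TransCentFi23

open Cfsg.Agent.ThreeTrans Relation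
open Cfsg.Agent.FischerM22 (adj_symm adj_comm sum_card_filter sum_card_filter_sq)
open Cfsg.Agent.FischerM23 (Reach reach_symm reach_conj)

variable {Γ : Type*} [Group Γ] [Finite Γ] {G : Type*} [Group G] [Finite G] {D : Set Γ} {E : Set G}

/-- A closed set of involutions whose members see a class of type M(22). -/
structure LocalCls (D : Set Γ) (E : Set G) : Prop where
  setup : FischerM22.Fi22Setup E
  conj : ∀ g : Γ, ∀ a ∈ D, g * a * g⁻¹ ∈ D
  order : ∀ a ∈ D, orderOf a = 2
  model : ∀ a ∈ D, ∃ π : Γ → G, NbrModel D a π E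
  locCent : ∀ a ∈ D, Loc D a = Subgroup.centralizer ({a} : Set Γ)

/-- The local picture at one member spreads over the class. -/
theorem localCls_of_base {d : Γ} (hd : orderOf d = 2) (S : FischerM22.Fi22Setup E) {π : Γ → G}
    (M : NbrModel (conjugatesOf d) d π E)
    (hL : Loc (conjugatesOf d) d = Subgroup.centralizer ({d} : Set Γ)) : LocalCls (conjugatesOf d) E := by
  have hconj : ∀ g : Γ, ∀ a ∈ conjugatesOf d, g * a * g⁻¹ ∈ conjugatesOf d := fun g a ha =>
    IsConj.trans ha (isConj_iff.2 ⟨g, rfl⟩)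
  refine ⟨S, hconj, fun a ha => ?_, fun a ha => ?_, fun a ha => ?_⟩ <;>
    obtain ⟨g, rfl⟩ := isConj_iff.1 (show IsConj d a from ha)
  · rw [← hd]; exact (MulAut.conj g).orderOf_eq d
  · have hadj := adj_conj_image hconj g d
    have hc : ∀ {x y : Γ}, Commute (g * x * g⁻¹) (g * y * g⁻¹) ↔ Commute x y := fun {x y} =>
      ⟨fun h => Commute.of_map (f := (MulAut.conj g).toMonoidHom) (MulAut.conj g).injective h,
        fun h => h.map (MulAut.conj g).toMonoidHom⟩
    have hb : ∀ x : Γ, g⁻¹ * (g * x * g⁻¹) * g = x := fun x => by group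
    refine ⟨fun x => π (g⁻¹ * x * g), ?_, ?_, ?_, ?_⟩
    · rw [hadj]
      rintro _ ⟨x, hx, rfl⟩ _ ⟨y, hy, rfl⟩ h
      simp only [hb] at h
      rw [M.inj hx hy h]
    · rw [hadj, Set.image_image]
      simp only [hb]
      exact M.image
    · rw [hadj]
      rintro _ ⟨x, hx, rfl⟩ _ ⟨y, hy, rfl⟩
      simp only [hb]
      rw [hc]
      exact M.comm x hx y hy
    · rw [hadj]
      rintro _ ⟨x, hx, rfl⟩ _ ⟨y, hy, rfl⟩ h
      have h1 := congrArg (fun z => g * z * g⁻¹) (M.braid x hx y hy fun e => h (hc.2 e))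
      simpa [mul_assoc] using h1
  · have h1 : Loc (conjugatesOf d) (g * d * g⁻¹) = (Loc (conjugatesOf d) d).map (MulAut.conj g).toMonoidHom := by
      show Subgroup.closure (adj (conjugatesOf d) (g * d * g⁻¹)) = (Subgroup.closure _).map _
      rw [MonoidHom.map_closure, adj_conj_image hconj g d]
      rfl
    rw [h1, hL]
    ext x
    constructor
    · rintro ⟨y, hy, rfl⟩
      exact Subgroup.mem_centralizer_singleton_iff.2
        ((show Commute y d from Subgroup.mem_centralizer_singleton_iff.1 hy).map (MulAut.conj g).toMonoidHom).eq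
    · intro hx
      refine ⟨g⁻¹ * x * g, Subgroup.mem_centralizer_singleton_iff.2 ?_, show g * (g⁻¹ * x * g) * g⁻¹ = x by group⟩
      calc g⁻¹ * x * g * d = g⁻¹ * (x * (g * d * g⁻¹)) * g := by group
        _ = g⁻¹ * ((g * d * g⁻¹) * x) * g := by rw [Subgroup.mem_centralizer_singleton_iff.1 hx]
        _ = d * (g⁻¹ * x * g) := by group

namespace LocalCls

theorem mul_self (S : LocalCls D E) {a : Γ} (ha : a ∈ D) : a * a = 1 := by
  rw [← pow_two, ← S.order a ha, pow_orderOf_eq_one]

theorem inv_eq (S : LocalCls D E) {a : Γ} (ha : a ∈ D) : a⁻¹ = a :=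
  inv_eq_of_mul_eq_one_left (S.mul_self ha)

theorem ne_one (S : LocalCls D E) {a : Γ} (ha : a ∈ D) : a ≠ 1 := fun h => by
  have := S.order a ha
  rw [h, orderOf_one] at this
  omega

theorem mul_self_cancel (S : LocalCls D E) {a : Γ} (ha : a ∈ D) (x : Γ) : a * (a * x) = x := by
  rw [← mul_assoc, S.mul_self ha, one_mul]

theorem conj_self (S : LocalCls D E) {a x : Γ} (ha : a ∈ D) (hx : x ∈ D) : a * x * a ∈ D := by
  have h := S.conj a x hx
  rwa [S.inv_eq ha] at h

theorem conj_conj (S : LocalCls D E) {a x : Γ} (ha : a ∈ D) (h : Commute a x) : a * x * a = x := by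
  rw [h.eq, mul_assoc, S.mul_self ha, mul_one]

theorem braid (S : LocalCls D E) {a x y : Γ} (ha : a ∈ D) (hx : x ∈ adj D a) (hy : y ∈ adj D a)
    (h : ¬ Commute x y) : x * y * x = y * x * y := by
  obtain ⟨π, M⟩ := S.model a ha
  exact M.braid x hx y hy h

/-! ### counts -/

theorem adj_ncard (S : LocalCls D E) {a : Γ} (ha : a ∈ D) : (adj D a).ncard = 3510 := by
  obtain ⟨π, M⟩ := S.model a ha
  rw [← M.inj.ncard_image, M.image, FischerM22.class_ncard S.setup]

theorem map_adj {a x : Γ} {π : Γ → G} (M : NbrModel D a π E) (hx : x ∈ adj D a) :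
    adj E (π x) = π '' (adj D a ∩ adj D x) := by
  ext e
  constructor
  · rintro ⟨he, hne, hc⟩
    rw [← M.image] at he
    obtain ⟨y, hy, rfl⟩ := he
    exact ⟨y, ⟨hy, hy.1, fun h => hne (h ▸ rfl), (M.comm x hx y hy).1 hc⟩, rfl⟩
  · rintro ⟨y, ⟨hy, -, hne, hc⟩, rfl⟩
    exact ⟨M.image ▸ ⟨y, hy, rfl⟩, fun h => hne (M.inj hy hx h), (M.comm x hx y hy).2 hc⟩

theorem mem_class {a x : Γ} {π : Γ → G} (M : NbrModel D a π E) (hx : x ∈ adj D a) : π x ∈ E :=
  M.image ▸ ⟨x, hx, rfl⟩

theorem common_ncard (S : LocalCls D E) {a x : Γ} (ha : a ∈ D) (hx : x ∈ adj D a) :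
    (adj D a ∩ adj D x).ncard = 693 := by
  obtain ⟨π, M⟩ := S.model a ha
  rw [← (M.inj.mono Set.inter_subset_left).ncard_image, ← map_adj M hx,
    FischerM22.adj_ncard S.setup (mem_class M hx)]

theorem map_common {a x y : Γ} {π : Γ → G} (M : NbrModel D a π E) (hx : x ∈ adj D a) (hy : y ∈ adj D a) :
    adj E (π x) ∩ adj E (π y) = π '' (adj D a ∩ adj D x ∩ adj D y) := by
  rw [map_adj M hx, map_adj M hy,
    ← M.inj.image_inter Set.inter_subset_left Set.inter_subset_left,
    ← Set.inter_inter_distrib_left, Set.inter_assoc]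

theorem triple_ncard (S : LocalCls D E) {a x y : Γ} (ha : a ∈ D) (hx : x ∈ adj D a) (hy : y ∈ adj D a)
    (hne : x ≠ y) (hc : Commute x y) : (adj D a ∩ adj D x ∩ adj D y).ncard = 180 := by
  obtain ⟨π, M⟩ := S.model a ha
  rw [← (M.inj.mono (Set.inter_subset_left.trans Set.inter_subset_left)).ncard_image, ← map_common M hx hy,
    FischerM22.common_ncard S.setup (mem_class M hx)
      ⟨mem_class M hy, fun h => hne (M.inj hx hy h.symm), (M.comm x hx y hy).2 hc⟩]

theorem far_triple_ncard (S : LocalCls D E) {a x y : Γ} (ha : a ∈ D) (hx : x ∈ adj D a) (hy : y ∈ adj D a)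
    (hc : ¬ Commute x y) : (adj D a ∩ adj D x ∩ adj D y).ncard = 126 := by
  obtain ⟨π, M⟩ := S.model a ha
  rw [← (M.inj.mono (Set.inter_subset_left.trans Set.inter_subset_left)).ncard_image, ← map_common M hx hy]
  exact FischerM22.common_card S.setup (mem_class M hx) (mem_class M hy) fun h => hc ((M.comm x hx y hy).1 h)

theorem common_deg (S : LocalCls D E) {a e q : Γ} (ha : a ∈ D) (he : e ∈ D) (hae : ¬ Commute a e)
    (hq : q ∈ common D a e) : (common D a e ∩ adj D q).ncard = 126 := by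
  rw [← S.far_triple_ncard hq.1.1 (adj_symm ha hq.1) (adj_symm he hq.2) hae]
  congr 1
  unfold common
  ext z
  simp only [Set.mem_inter_iff]
  tauto

end LocalCls

section Diameter

/-- The basic inequality for a part of the common neighbours closed under commuting. -/
theorem closed_bound (S : LocalCls D E) {a e : Γ} (ha : a ∈ D) (he : e ∈ D) (hae : ¬ Commute a e)
    {C : Set Γ} (hC : C ⊆ common D a e) (hne : C.Nonempty)
    (hcl : ∀ q ∈ C, ∀ r ∈ common D a e, Commute q r → r ∈ C)
    (K : Set Γ) (hK : K ⊆ adj D a) (hK0 : ∀ p ∈ K, ∀ q ∈ C, ¬ Commute p q) :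
    68 ≤ C.ncard ∧ 5103 * (C.ncard : ℤ) ≤ (3510 - C.ncard - K.ncard) * (2 * C.ncard - 135) := by
  classical
  have := Fintype.ofFinite Γ
  set A : Finset Γ := (adj D a).toFinset with hA
  set c : Finset Γ := C.toFinset with hc
  set R : Γ → Γ → Prop := fun p q => q ∈ adj D p with hR
  have hAc : A.card = 3510 := by rw [hA, ← Set.ncard_eq_toFinset_card']; exact S.adj_ncard ha
  have hcA : c ⊆ A := fun x hx => by
    simp only [hc, hA, Set.mem_toFinset] at hx ⊢
    exact (hC hx).1
  have hcn : c.card = C.ncard := by rw [hc, ← Set.ncard_eq_toFinset_card']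
  -- the neighbours inside C
  have hin : ∀ p ∈ c, (c.filter (R p)).card = 126 := by
    intro p hp
    simp only [hc, Set.mem_toFinset] at hp
    rw [← Set.ncard_coe_finset, ← S.common_deg ha he hae (hC hp)]
    congr 1
    ext r
    simp only [hc, hR, Finset.coe_filter, Set.mem_toFinset, Set.mem_ofPred_eq, Set.mem_inter_iff]
    exact ⟨fun h => ⟨hC h.1, h.2⟩, fun h => ⟨hcl p hp r h.1 h.2.2.2, h.2⟩⟩
  have h180 : ∀ q ∈ c, (A.filter fun p => R p q).card = 693 := by
    intro q hq
    simp only [hc, Set.mem_toFinset] at hq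
    rw [← Set.ncard_coe_finset, ← S.common_ncard ha (hC hq).1]
    congr 1
    ext p
    simp only [hA, hR, Finset.coe_filter, Set.mem_toFinset, Set.mem_ofPred_eq, Set.mem_inter_iff]
    exact and_congr_right fun hp => adj_comm hp.1 (hC hq).1.1
  have htot : ∑ p ∈ A, (c.filter (R p)).card = 693 * c.card := by
    rw [sum_card_filter, Finset.sum_congr rfl h180, Finset.sum_const, smul_eq_mul, mul_comm]
  have hpair : ∀ q ∈ c, ∀ r ∈ c, (A.filter fun p => R p q ∧ R p r).card
      = if r = q then 693 else if R q r then 180 else 126 := by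
    intro q hq r hr
    by_cases h1 : r = q
    · subst h1
      rw [if_pos rfl, ← h180 r hr]
      congr 1
      exact Finset.filter_congr fun p _ => and_self_iff
    rw [if_neg h1]
    simp only [hc, Set.mem_toFinset] at hq hr
    have hset : (↑(A.filter fun p => R p q ∧ R p r) : Set Γ) = adj D a ∩ adj D q ∩ adj D r := by
      ext p
      simp only [hA, hR, Finset.coe_filter, Set.mem_toFinset, Set.mem_ofPred_eq, Set.mem_inter_iff]
      refine ⟨fun h => ⟨⟨h.1, (adj_comm h.1.1 (hC hq).1.1).1 h.2.1⟩, (adj_comm h.1.1 (hC hr).1.1).1 h.2.2⟩,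
        fun h => ⟨h.1.1, (adj_comm h.1.1.1 (hC hq).1.1).2 h.1.2, (adj_comm h.1.1.1 (hC hr).1.1).2 h.2⟩⟩
    by_cases h2 : R q r
    · rw [if_pos h2, ← Set.ncard_coe_finset, hset]
      exact S.triple_ncard ha (hC hq).1 (hC hr).1 (fun h => h1 h.symm) h2.2.2
    · rw [if_neg h2, ← Set.ncard_coe_finset, hset]
      exact S.far_triple_ncard ha (hC hq).1 (hC hr).1 fun h => h2 ⟨(hC hr).1.1, h1, h⟩
  have hsq : (∑ p ∈ A, (c.filter (R p)).card ^ 2 : ℕ) = c.card * (7371 + 126 * c.card) := by
    rw [sum_card_filter_sq, Finset.sum_congr rfl fun q hq => Finset.sum_congr rfl (hpair q hq)]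
    refine (Finset.sum_const_nat fun q hq => ?_)
    have h126 := hin q hq
    have e1 : ∀ r ∈ c, (if r = q then 693 else if R q r then 180 else 126 : ℕ)
        = 126 + (if r = q then 567 else 0) + (if R q r then 54 else 0) := by
      intro r _
      by_cases h : r = q
      · subst h
        rw [if_pos rfl, if_pos rfl, if_neg (fun h' : R r r => h'.2.1 rfl)]
      · by_cases h' : R q r <;> simp [h, h']
    rw [Finset.sum_congr rfl e1, Finset.sum_add_distrib, Finset.sum_add_distrib, Finset.sum_const,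
      Finset.sum_ite_eq' c q, if_pos hq, ← Finset.sum_filter, Finset.sum_const, h126]
    simp only [smul_eq_mul]
    ring
  have hc1 : ∑ p ∈ c, (c.filter (R p)).card = 126 * c.card := by
    rw [Finset.sum_congr rfl hin, Finset.sum_const, smul_eq_mul, mul_comm]
  have hc2 : ∑ p ∈ c, (c.filter (R p)).card ^ 2 = 15876 * c.card := by
    rw [Finset.sum_congr rfl fun p hp => by rw [hin p hp], Finset.sum_const, smul_eq_mul, mul_comm]; rfl
  -- the others
  set k : Finset Γ := K.toFinset with hk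
  have hkc : k ⊆ A \ c := fun p hp => by
    simp only [hk, Set.mem_toFinset] at hp
    simp only [hA, hc, Finset.mem_sdiff, Set.mem_toFinset]
    exact ⟨hK hp, fun h => hK0 p hp p h (Commute.refl p)⟩
  have hk0 : ∀ p ∈ k, (c.filter (R p)).card = 0 := fun p hp => by
    simp only [hk, Set.mem_toFinset] at hp
    rw [Finset.card_eq_zero, Finset.filter_eq_empty_iff]
    intro q hq h
    simp only [hc, Set.mem_toFinset] at hq
    exact hK0 p hp q hq h.2.2
  set B := (A \ c) \ k with hB
  have hB1 : ∑ p ∈ B, (c.filter (R p)).card + 126 * c.card = 693 * c.card := by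
    rw [← htot, ← Finset.sum_sdiff hcA, hc1, ← Finset.sum_sdiff hkc, Finset.sum_eq_zero hk0, add_zero]
  have hB2 : (∑ p ∈ B, (c.filter (R p)).card ^ 2) + 15876 * c.card = c.card * (7371 + 126 * c.card) := by
    rw [← hsq, ← Finset.sum_sdiff hcA, hc2, ← Finset.sum_sdiff hkc,
      Finset.sum_eq_zero (s := k) (fun p hp => by rw [hk0 p hp]; rfl), add_zero]
  have hBc : B.card + k.card + c.card = 3510 := by
    rw [← hAc, ← Finset.card_sdiff_add_card_eq_card hcA, ← Finset.card_sdiff_add_card_eq_card hkc]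
  have hcs : (∑ p ∈ B, (c.filter (R p)).card) ^ 2 ≤ B.card * ∑ p ∈ B, (c.filter (R p)).card ^ 2 :=
    sq_sum_le_card_mul_sum_sq
  have hkn : k.card = K.ncard := by rw [hk, ← Set.ncard_eq_toFinset_card']
  have hpos : 0 < c.card := by rw [hcn]; exact (Set.ncard_pos (Set.toFinite _)).2 hne
  rw [← hcn, ← hkn]
  generalize ∑ p ∈ B, (c.filter (R p)).card = s1 at hB1 hcs
  generalize ∑ p ∈ B, (c.filter (R p)).card ^ 2 = s2 at hB2 hcs
  zify at hcs hB1 hB2 hBc hpos
  obtain ⟨n, hn⟩ : ∃ n, (c.card : ℤ) = n := ⟨_, rfl⟩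
  rw [hn] at hB1 hB2 hBc hpos ⊢
  generalize (B.card : ℤ) = m at *
  have h1 : (s1 : ℤ) = 567 * n := by linarith
  rw [h1] at hcs
  have h2 : (s2 : ℤ) = 63 * n * (2 * n - 135) := by linarith
  rw [h2] at hcs
  have h3 : 321489 * n ≤ m * (63 * (2 * n - 135)) :=
    le_of_mul_le_mul_left (by linarith : n * (321489 * n) ≤ n * (m * (63 * (2 * n - 135)))) hpos
  have h68 : 68 ≤ n := by
    have : (0 : ℤ) ≤ s2 := Int.natCast_nonneg _
    rw [h2] at this
    by_contra hlt
    nlinarith
  refine ⟨by rw [← hn] at h68; exact_mod_cast h68, ?_⟩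
  rw [show (3510 : ℤ) - n - k.card = m by linarith]
  linarith

/-- Every neighbour of `a` commutes with a common neighbour of `a` and `e`. -/
theorem exists_common_commute (S : LocalCls D E) {a e p : Γ} (ha : a ∈ D) (he : e ∈ D)
    (hae : ¬ Commute a e) (hne : (common D a e).Nonempty) (hp : p ∈ adj D a) : ∃ y ∈ common D a e, Commute y p := by
  by_contra hc
  have hc' : ∀ y ∈ common D a e, ¬ Commute y p := fun y hy h => hc ⟨y, hy, h⟩
  have hp0 : p ∉ common D a e := fun h => hc' p h (Commute.refl p)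
  set K := (fun q => q * p * q) '' common D a e with hKdef
  have hinj : Set.InjOn (fun q => q * p * q) (common D a e) := by
    intro q hq r hr h
    simp only [S.braid ha hq.1 hp (hc' q hq), S.braid ha hr.1 hp (hc' r hr)] at h
    exact mul_left_cancel (mul_right_cancel h)
  have hkey : ∀ q ∈ common D a e, q * p * q ∈ adj D a ∧ ∀ r ∈ common D a e, ¬ Commute (q * p * q) r := by
    intro q hq
    refine ⟨⟨S.conj_self hq.1.1 hp.1, fun h => hp.2.1 ?_,
      (hq.1.2.2.mul_right hp.2.2).mul_right hq.1.2.2⟩, fun r hr h => ?_⟩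
    · calc p = q * (q * p * q) * q := by
            simp only [mul_assoc, S.mul_self_cancel hq.1.1, S.mul_self hq.1.1, mul_one]
        _ = a := by rw [h]; exact S.conj_conj hq.1.1 hq.1.2.2.symm
    · have hmem : q * r * q⁻¹ ∈ common D a e := by
        have h1 := common_conj S.conj (y := e) (hq.1.2.2.symm : Commute q a)
        rw [show q * e * q⁻¹ = e by rw [← hq.2.2.2.eq, mul_inv_cancel_right]] at h1
        rw [h1]; exact ⟨r, hr, rfl⟩
      refine hc' _ hmem ?_
      have h1 := (h.map (MulAut.conj q).toMonoidHom).symm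
      simp only [MulEquiv.coe_toMonoidHom, MulAut.conj_apply] at h1
      rwa [show q * (q * p * q) * q⁻¹ = p by
        rw [S.inv_eq hq.1.1]
        simp only [mul_assoc, S.mul_self_cancel hq.1.1, S.mul_self hq.1.1, mul_one]] at h1
  obtain ⟨-, h⟩ := closed_bound S ha he hae subset_rfl hne
    (fun _ _ _ hr _ => hr) K (by rintro _ ⟨q, hq, rfl⟩; exact (hkey q hq).1)
    (by rintro _ ⟨q, hq, rfl⟩ r hr; exact (hkey q hq).2 r hr)
  rw [hKdef, Set.InjOn.ncard_image hinj] at h
  generalize ((common D a e).ncard : ℤ) = s at h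
  nlinarith [sq_nonneg (8 * s - 2187)]

end Diameter

namespace LocalCls

/-- A component has diameter two. -/
theorem reach_cases (S : LocalCls D E) {a x : Γ} (ha : a ∈ D) (h : Reach D a x) :
    x ∈ D ∧ (x = a ∨ x ∈ adj D a ∨ (¬ Commute a x ∧ (common D a x).Nonempty)) := by
  induction h with
  | refl => exact ⟨ha, Or.inl rfl⟩
  | @tail u v _ huv ih =>
    obtain ⟨-, ih⟩ := ih
    refine ⟨huv.2.1, ?_⟩
    by_cases hva : v = a
    · exact Or.inl hva
    by_cases hc : Commute a v
    · exact Or.inr (Or.inl ⟨huv.2.1, hva, hc⟩)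
    refine Or.inr (Or.inr ⟨hc, ?_⟩)
    have hvu : v ≠ u → v ∈ adj D u := fun e => ⟨huv.2.1, e, huv.2.2⟩
    by_cases hvu' : v = u
    · subst hvu'
      rcases ih with h | h | ⟨-, h⟩
      exacts [absurd h hva, absurd h.2.2 hc, h]
    rcases ih with rfl | h | ⟨h, hne⟩
    · exact absurd huv.2.2 hc
    · exact ⟨u, h, adj_symm huv.1 (hvu hvu')⟩
    · obtain ⟨q, hq⟩ := hne
      have hne' : (common D u a).Nonempty := ⟨q, hq.2, hq.1⟩
      obtain ⟨y, hy, hyv⟩ := exists_common_commute S huv.1 ha (fun h' => h h'.symm) hne'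
        (hvu hvu')
      by_cases hyv' : v = y
      · exact absurd hy.2.2.2 (hyv' ▸ hc)
      · exact ⟨y, hy.2, hy.2.1, fun e => hyv' e.symm, hyv.symm⟩

theorem reach_refl_mem (S : LocalCls D E) {a x : Γ} (ha : a ∈ D) (h : Reach D a x) : x ∈ D :=
  (S.reach_cases ha h).1

/-- Two members of a component commute or their product has order three. -/
theorem reach_product (S : LocalCls D E) {a b : Γ} (ha : a ∈ D) (h : Reach D a b) :
    (a * b) ^ 2 = 1 ∨ (a * b) ^ 3 = 1 := by
  obtain ⟨hb, hcase⟩ := S.reach_cases ha h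
  have sq : Commute a b → (a * b) ^ 2 = 1 := fun hc => by
    rw [hc.mul_pow, pow_two, pow_two, S.mul_self ha, S.mul_self hb, one_mul]
  rcases hcase with rfl | hadj | ⟨hn, q, hq⟩
  · exact Or.inl (sq (Commute.refl _))
  · exact Or.inl (sq hadj.2.2)
  · right
    have hb' := S.braid hq.1.1 (adj_symm ha hq.1) (adj_symm hb hq.2) hn
    calc (a * b) ^ 3 = a * b * a * (b * a * b) := by simp [pow_succ, mul_assoc]
      _ = a * b * a * (a * b * a) := by rw [hb']
      _ = 1 := by simp [mul_assoc, S.mul_self_cancel ha, S.mul_self_cancel hb, S.mul_self ha]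

/-- The members joined to `a`. -/
def comp (D : Set Γ) (a : Γ) : Set Γ := {x | x ∈ D ∧ Reach D a x}

theorem self_mem_comp (a : Γ) (ha : a ∈ D) : a ∈ comp D a := ⟨ha, ReflTransGen.refl⟩

theorem comp_closed {a x y : Γ} (hx : x ∈ comp D a) (hy : y ∈ D) (hc : Commute x y) : y ∈ comp D a :=
  ⟨hy, hx.2.tail ⟨hx.1, hy, hc⟩⟩

theorem adj_sub_comp {a x : Γ} (hx : x ∈ comp D a) : adj D x ⊆ comp D a := fun _ hy =>
  comp_closed hx hy.1 hy.2.2

/-- An element sending a member of a component into it stabilises it. -/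
theorem comp_conj (S : LocalCls D E) {a x g : Γ} (hx : x ∈ comp D a) (hg : g * x * g⁻¹ ∈ comp D a)
    {y : Γ} (hy : y ∈ comp D a) : g * y * g⁻¹ ∈ comp D a :=
  ⟨S.conj g y hy.1, hg.2.trans (reach_conj S.conj g ((reach_symm hx.2).trans hy.2))⟩

/-- The group generated by a component. -/
abbrev compGroup (D : Set Γ) (a : Γ) : Subgroup Γ := Subgroup.closure (comp D a)

theorem mem_compGroup {a x : Γ} (hx : x ∈ comp D a) : x ∈ compGroup D a := Subgroup.subset_closure hx

theorem centralizer_le (S : LocalCls D E) {a x : Γ} (hx : x ∈ comp D a) :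
    Subgroup.centralizer ({x} : Set Γ) ≤ compGroup D a := by
  rw [← S.locCent x hx.1]
  exact Subgroup.closure_mono (adj_sub_comp hx)

theorem compGroup_conj (S : LocalCls D E) {a g : Γ} (hg : g ∈ compGroup D a) :
    ∀ y ∈ comp D a, g * y * g⁻¹ ∈ comp D a := by
  induction hg using Subgroup.closure_induction with
  | mem x hx =>
    intro y hy
    exact S.comp_conj hx (by rwa [mul_inv_cancel_right]) hy
  | one => intro y hy; simpa using hy
  | mul u v _ _ hu hv =>
    intro y hy
    rw [show u * v * y * (u * v)⁻¹ = u * (v * y * v⁻¹) * u⁻¹ by group]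
    exact hu _ (hv y hy)
  | inv u _ hu =>
    intro y hy
    have hfin : (fun z => u * z * u⁻¹) '' comp D a = comp D a :=
      Set.eq_of_subset_of_ncard_le (by rintro _ ⟨z, hz, rfl⟩; exact hu z hz)
        (Set.ncard_image_of_injective _ fun p q h => mul_left_cancel (mul_right_cancel h)).ge (Set.toFinite _)
    obtain ⟨z, hz, e⟩ := hfin.symm ▸ hy
    rw [← e]
    convert hz using 1
    group

/-- A component is a single class of its group. -/
theorem comp_trans (S : LocalCls D E) {a x : Γ} (ha : a ∈ D) (hx : x ∈ comp D a) :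
    ∃ h ∈ compGroup D a, h * a * h⁻¹ = x := by
  have flip : ∀ {u v : Γ}, u ∈ comp D a → v ∈ comp D a → ¬ Commute u v →
      ∃ h ∈ compGroup D a, h * u * h⁻¹ = v := by
    intro u v hu hv hn
    obtain ⟨-, hcase⟩ := S.reach_cases hu.1 ((reach_symm hu.2).trans hv.2)
    rcases hcase with rfl | h | ⟨-, q, hq⟩
    · exact absurd (Commute.refl _) hn
    · exact absurd h.2.2 hn
    refine ⟨u * v, mul_mem (mem_compGroup hu) (mem_compGroup hv), ?_⟩
    have hb := S.braid hq.1.1 (adj_symm hu.1 hq.1) (adj_symm hv.1 hq.2) hn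
    calc u * v * u * (u * v)⁻¹ = (u * v * u) * (v * u) := by
          rw [mul_inv_rev, S.inv_eq hu.1, S.inv_eq hv.1]
      _ = (v * u * v) * (v * u) := by rw [hb]
      _ = v := by simp [mul_assoc, S.mul_self_cancel hu.1, S.mul_self_cancel hv.1, S.mul_self hu.1]
  obtain ⟨hxD, hr⟩ := hx
  induction hr with
  | refl => exact ⟨1, one_mem _, by simp⟩
  | @tail u v hau huv ih =>
    have hu : u ∈ comp D a := ⟨huv.1, hau⟩
    have hv : v ∈ comp D a := comp_closed hu huv.2.1 huv.2.2
    obtain ⟨h, hh, e⟩ := ih huv.1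
    by_cases hvu : v = u
    · exact ⟨h, hh, hvu ▸ e⟩
    -- a member commuting with neither
    have hadj : v ∈ adj D u := ⟨huv.2.1, hvu, huv.2.2⟩
    obtain ⟨q, ⟨hq, hqv⟩⟩ : (adj D u ∩ adj D v).Nonempty :=
      Set.nonempty_of_ncard_ne_zero (by rw [S.common_ncard huv.1 hadj]; norm_num)
    have hu' := adj_symm huv.1 hq
    have hv' := adj_symm huv.2.1 hqv
    obtain ⟨z, hz, n1, n2⟩ : ∃ z ∈ adj D q, ¬ Commute u z ∧ ¬ Commute v z := by
      by_contra hno
      have hsub : adj D q ⊆ insert u (adj D q ∩ adj D u) ∪ insert v (adj D q ∩ adj D v) := by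
        intro z hz
        by_cases h1 : Commute u z
        · by_cases e1 : z = u
          · exact Or.inl (Or.inl e1)
          · exact Or.inl (Or.inr ⟨hz, hz.1, e1, h1⟩)
        by_cases h2 : Commute v z
        · by_cases e1 : z = v
          · exact Or.inr (Or.inl e1)
          · exact Or.inr (Or.inr ⟨hz, hz.1, e1, h2⟩)
        exact absurd ⟨z, hz, h1, h2⟩ hno
      have h3 := (Set.ncard_le_ncard hsub (Set.toFinite _)).trans
        ((Set.ncard_union_le _ _).trans (Nat.add_le_add (Set.ncard_insert_le _ _) (Set.ncard_insert_le _ _)))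
      rw [S.adj_ncard hq.1, S.common_ncard hq.1 hu', S.common_ncard hq.1 hv'] at h3
      omega
    have hzc : z ∈ comp D a := adj_sub_comp (adj_sub_comp hu hq) hz
    obtain ⟨h1, hh1, e1⟩ := flip hu hzc n1
    obtain ⟨h2, hh2, e2⟩ := flip hzc hv fun hc => n2 hc.symm
    refine ⟨h2 * h1 * h, mul_mem (mul_mem hh2 hh1) hh, ?_⟩
    rw [show h2 * h1 * h * a * (h2 * h1 * h)⁻¹ = h2 * (h1 * (h * a * h⁻¹) * h1⁻¹) * h2⁻¹ by group, e, e1, e2]

/-- An element meeting a component lies in its group. -/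
theorem mem_of_meet (S : LocalCls D E) {a x g : Γ} (ha : a ∈ D) (hx : x ∈ comp D a)
    (hg : g * x * g⁻¹ ∈ comp D a) : g ∈ compGroup D a := by
  obtain ⟨h, hh, e⟩ := S.comp_trans ha hx
  obtain ⟨k, hk, ek⟩ := S.comp_trans ha hg
  have hc : k⁻¹ * g * h ∈ Subgroup.centralizer ({a} : Set Γ) := by
    refine Subgroup.mem_centralizer_singleton_iff.2 ?_
    calc k⁻¹ * g * h * a = k⁻¹ * (g * (h * a * h⁻¹) * g⁻¹) * (g * h) := by group
      _ = k⁻¹ * (k * a * k⁻¹) * (g * h) := by rw [e, ek]
      _ = a * (k⁻¹ * g * h) := by group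
  have := mul_mem (mul_mem hk (S.centralizer_le (self_mem_comp a ha) hc)) (inv_mem hh)
  rwa [show k * (k⁻¹ * g * h) * h⁻¹ = g by group] at this

end LocalCls

end Cfsg.Agent.TransCentFi23
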