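/-
A class of 3-transpositions with local quotients of type M(22) contains a frame of type Y342; counting
then shows that the group is the presented group Fi23.
-/
import Cfsg.Agent.Lib.TransCentFi23.Local
import Cfsg.Agent.Lib.FischerM22.Relators
import Cfsg.Agent.S1697

set_option autoImplicit false
set_option linter.unusedSectionVars false

namespace Cfsg.Agent.TransCentFi23.Loc23

open Cfsg.Agent.ThreeTrans Cfsg.Agent.ThreeTransSU
open Cfsg.Agent.FischerM22 (card_centralizer_mul_class)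
open Cfsg.Agent.FischerM22 (YFrame pathMat FarPair IsTriple perpSet cell)
open Cfsg.Agent.FischerM23 (QL QSet qm qm_of_mem qm_coe mem_loc_of_adj qm_mul qset_eq qm_mem qm_conj)

variable {G : Type*} [Group G] {D : Set G}

/-- The hexad through `a, c, g` in the local quotient at `w`, as a set of members. -/
def hexG (D : Set G) (w a c g : G) : Set G :=
  {p | p ∈ adj D w ∧ Commute p a ∧ Commute p c ∧ Commute p g ∧
    ∀ q ∈ adj D w, Commute q a → Commute q c → Commute q g → Commute p q}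

/-- Members commuting with `k` lying on both sides of a non-commuting pair are distinct. -/
theorem ne_of_commute {u v k : G} (h1 : Commute u k) (h2 : ¬ Commute v k) : u ≠ v := fun e => h2 (e ▸ h1)

theorem exists_lift {k : G} {q : QL D k} (hq : q ∈ QSet D k) : ∃ p ∈ adj D k, qm D k p = q := by
  rw [qset_eq] at hq; exact hq

variable [Finite G]

theorem qm_adj_iff (S : Fi23Local D) {k p x : G} (hk : k ∈ D) (hp : p ∈ adj D k) (hx : x ∈ adj D k) :
    qm D k p ∈ adj (QSet D k) (qm D k x) ↔ p ∈ adj D x :=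
  ⟨fun h => ⟨hp.1, fun e => h.2.1 (e ▸ rfl), (qm_comm S hk hx hp).1 h.2.2⟩,
    fun h => qm_mem_adj S hk hx hp h.2.1 h.2.2⟩

theorem qm_common_iff (S : Fi23Local D) {k p x y : G} (hk : k ∈ D) (hp : p ∈ adj D k) (hx : x ∈ adj D k)
    (hy : y ∈ adj D k) : qm D k p ∈ common (QSet D k) (qm D k x) (qm D k y) ↔ p ∈ common D x y :=
  and_congr (qm_adj_iff S hk hp hx) (qm_adj_iff S hk hp hy)

theorem qm_farPair (S : Fi23Local D) {k x y : G} (hk : k ∈ D) (hx : x ∈ adj D k) (hy : y ∈ adj D k)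
    (hxy : ¬ Commute x y) : FarPair (QSet D k) (qm D k x) (qm D k y) :=
  ⟨qm_mem hx, qm_mem hy, fun h => hxy ((qm_comm S hk hx hy).1 h)⟩

/-- A pattern of commuting passes to the local quotient. -/
theorem qm_pattern (S : Fi23Local D) {k : G} (hk : k ∈ D) {n : ℕ} {m : Fin n → G} (hm : ∀ j, m j ∈ adj D k)
    (hpat : ∀ j l, Commute (m j) (m l) ↔ pathMat n j l = 0) (j l : Fin n) :
    Commute (qm D k (m j)) (qm D k (m l)) ↔ pathMat n j l = 0 :=
  (qm_comm S hk (hm j) (hm l)).trans (hpat j l)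

section Hex

variable {w a c g : G}

theorem qm_hexG_iff (S : Fi23Local D) (hw : w ∈ D) (ha : a ∈ adj D w) (hc : c ∈ adj D w) (hg : g ∈ adj D w)
    {p : G} (hp : p ∈ adj D w) :
    qm D w p ∈ hexSet (QSet D w) (qm D w a) (qm D w c) (qm D w g) ↔ p ∈ hexG D w a c g := by
  constructor
  · rintro ⟨-, h1, h2, h3, h4⟩
    refine ⟨hp, (qm_comm S hw hp ha).1 h1, (qm_comm S hw hp hc).1 h2, (qm_comm S hw hp hg).1 h3,
      fun q hq qa qc qg => (qm_comm S hw hp hq).1 (h4 _ (qm_mem hq) ?_ ?_ ?_)⟩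
    exacts [(qm_comm S hw hq ha).2 qa, (qm_comm S hw hq hc).2 qc, (qm_comm S hw hq hg).2 qg]
  · rintro ⟨-, h1, h2, h3, h4⟩
    refine ⟨qm_mem hp, (qm_comm S hw hp ha).2 h1, (qm_comm S hw hp hc).2 h2, (qm_comm S hw hp hg).2 h3,
      fun r hr qa qc qg => ?_⟩
    obtain ⟨q, hq, rfl⟩ := exists_lift hr
    exact (qm_comm S hw hp hq).2 (h4 q hq ((qm_comm S hw hq ha).1 qa) ((qm_comm S hw hq hc).1 qc)
      ((qm_comm S hw hq hg).1 qg))

theorem qm_triple (S : Fi23Local D) (hw : w ∈ D) (ha : a ∈ adj D w) (hc : c ∈ adj D w) (hg : g ∈ adj D w)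
    (hT : IsTriple D a c g) : IsTriple (QSet D w) (qm D w a) (qm D w c) (qm D w g) := by
  obtain ⟨-, -, -, n1, n2, n3, c1, c2, c3⟩ := hT
  exact ⟨qm_mem ha, qm_mem hc, qm_mem hg, fun e => n1 (qm_inj S hw ha hc e), fun e => n2 (qm_inj S hw ha hg e),
    fun e => n3 (qm_inj S hw hc hg e), (qm_comm S hw ha hc).2 c1, (qm_comm S hw ha hg).2 c2,
    (qm_comm S hw hc hg).2 c3⟩

omit [Finite G] in
theorem self_mem_hexG (ha : a ∈ adj D w) (hc : c ∈ adj D w) (hg : g ∈ adj D w) (hT : IsTriple D a c g) :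
    a ∈ hexG D w a c g ∧ c ∈ hexG D w a c g ∧ g ∈ hexG D w a c g := by
  obtain ⟨-, -, -, -, -, -, c1, c2, c3⟩ := hT
  exact ⟨⟨ha, Commute.refl a, c1, c2, fun _ _ h _ _ => h.symm⟩,
    ⟨hc, c1.symm, Commute.refl c, c3, fun _ _ _ h _ => h.symm⟩,
    ⟨hg, c2.symm, c3.symm, Commute.refl g, fun _ _ _ _ h => h.symm⟩⟩

theorem hexG_ncard (S : Fi23Local D) (hw : w ∈ D) (ha : a ∈ adj D w) (hc : c ∈ adj D w) (hg : g ∈ adj D w)
    (hT : IsTriple D a c g) : (hexG D w a c g).ncard = 6 := by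
  rw [← qm_ncard S hw (s := hexG D w a c g) (fun p hp => hp.1),
    show qm D w '' hexG D w a c g = hexSet (QSet D w) (qm D w a) (qm D w c) (qm D w g) from ?_,
    FischerM22.hexSet_ncard (S.localSetup hw) (qm_triple S hw ha hc hg hT)]
  ext q
  constructor
  · rintro ⟨p, hp, rfl⟩
    exact (qm_hexG_iff S hw ha hc hg hp.1).2 hp
  · intro hq
    obtain ⟨p, hp, rfl⟩ := exists_lift hq.1
    exact ⟨p, (qm_hexG_iff S hw ha hc hg hp).1 hq, rfl⟩

/-- A neighbour commuting with three members of a hexad commutes with all. -/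
theorem hexG_kill (S : Fi23Local D) (hw : w ∈ D) (ha : a ∈ adj D w) (hc : c ∈ adj D w) (hg : g ∈ adj D w)
    (hT : IsTriple D a c g) {p q r s y : G} (hp : p ∈ hexG D w a c g) (hq : q ∈ hexG D w a c g)
    (hr : r ∈ hexG D w a c g) (hs : s ∈ hexG D w a c g) (h1 : p ≠ q) (h2 : p ≠ r) (h3 : q ≠ r)
    (hy : y ∈ adj D w) (yp : Commute y p) (yq : Commute y q) (yr : Commute y r) : Commute s y := by
  have L := fun {u : G} (hu : u ∈ hexG D w a c g) => (qm_hexG_iff S hw ha hc hg hu.1).2 hu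
  have hs' := L hs
  rw [← FischerM22.hexSet_eq_of_mem (S.localSetup hw) (qm_triple S hw ha hc hg hT) (L hp) (L hq) (L hr)
    (fun e => h1 (qm_inj S hw hp.1 hq.1 e)) (fun e => h2 (qm_inj S hw hp.1 hr.1 e))
    (fun e => h3 (qm_inj S hw hq.1 hr.1 e))] at hs'
  exact (qm_comm S hw hs.1 hy).1 (hs'.2.2.2.2 _ (qm_mem hy) ((qm_comm S hw hy hp.1).2 yp)
    ((qm_comm S hw hy hq.1).2 yq) ((qm_comm S hw hy hr.1).2 yr))

/-- A further member `e` of the hexad at `w` puts `w` in the hexad of `c, g, e` at `a`. -/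
theorem hub_mem (S : Fi23Local D) (hw : w ∈ D) (ha : a ∈ adj D w) (hc : c ∈ adj D w) (hg : g ∈ adj D w)
    (hT : IsTriple D a c g) {e : G} (he : e ∈ hexG D w a c g) (n1 : e ≠ a) (n2 : e ≠ c) (n3 : e ≠ g) :
    IsTriple D c g e ∧ c ∈ adj D a ∧ g ∈ adj D a ∧ e ∈ adj D a ∧ w ∈ hexG D a c g e := by
  obtain ⟨haD, hcD, hgD, m1, m2, m3, c1, c2, c3⟩ := id hT
  obtain ⟨hew, ea, ec, eg, hall⟩ := id he
  have hca : c ∈ adj D a := ⟨hcD, m1.symm, c1⟩
  have hga : g ∈ adj D a := ⟨hgD, m2.symm, c2⟩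
  have hea : e ∈ adj D a := ⟨hew.1, n1, ea.symm⟩
  have hT' : IsTriple D c g e := ⟨hcD, hgD, hew.1, m3, n2.symm, n3.symm, c3, ec.symm, eg.symm⟩
  have hwa : w ∈ adj D a := FischerM22.adj_symm hw ha
  refine ⟨hT', hca, hga, hea, ?_⟩
  by_contra hnot
  have hsub : insert a (hexG D a c g e) ⊆ hexG D w a c g := by
    intro p hp
    rcases hp with rfl | hp
    · exact (self_mem_hexG ha hc hg hT).1
    obtain ⟨hpa, pc, pg, pe, pall⟩ := id hp
    have pw : Commute p w := pall w hwa hc.2.2 hg.2.2 hew.2.2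
    have hpw : p ∈ adj D w := ⟨hpa.1, fun h => hnot (h ▸ hp), pw.symm⟩
    refine ⟨hpw, hpa.2.2.symm, pc, pg, fun q hq qa qc qg => ?_⟩
    by_cases h : q = a
    · exact h ▸ hpa.2.2.symm
    · exact pall q ⟨hq.1, h, qa.symm⟩ qc qg (hall q hq qa qc qg).symm
  have h7 := Set.ncard_le_ncard hsub (Set.toFinite _)
  rw [Set.ncard_insert_of_notMem (fun h => h.1.2.1 rfl) (Set.toFinite _),
    hexG_ncard S haD hca hga hea hT', hexG_ncard S hw ha hc hg hT] at h7
  omega

/-- The member like a completion in the hexad of a chain and its dual point. -/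
theorem exists_hex_dual (S : Fi23Local D) (hw : w ∈ D) {z : G} (hz : z ∈ adj D w) (m : Fin 6 → G)
    (hmw : ∀ j, m j ∈ adj D w) (hmz : ∀ j, m j ∈ adj D z)
    (hpat : ∀ j l, Commute (m j) (m l) ↔ pathMat 6 j l = 0) (hg : g ∈ adj D w) (hgz : g ∈ adj D z)
    (hgc : ∀ j, j ≠ 5 → Commute g (m j)) (hg5 : ¬ Commute g (m 5)) :
    ∃ p ∈ hexG D w (m 0) (m 2) g, p ∈ adj D z ∧ Commute p (m 1) ∧ ¬ Commute p (m 3) ∧ ¬ Commute p (m 5) := by
  obtain ⟨-, p, hpH, hpz, p1, p3, p5⟩ := FischerM22.exists_hexad_dual (S.localSetup hw) (qm_mem hz)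
    (fun j => qm D w (m j)) (fun j => (qm_adj_iff S hw (hmw j) hz).2 (hmz j)) (qm_pattern S hw hmw hpat)
    ((qm_adj_iff S hw hg hz).2 hgz) (fun j hj => (qm_comm S hw hg (hmw j)).2 (hgc j hj))
    (fun h => hg5 ((qm_comm S hw hg (hmw 5)).1 h))
  obtain ⟨p, hp, rfl⟩ := exists_lift hpH.1
  exact ⟨p, (qm_hexG_iff S hw (hmw 0) (hmw 2) hg hp).1 hpH, (qm_adj_iff S hw hp hz).1 hpz,
    (qm_comm S hw hp (hmw 1)).1 p1, fun h => p3 ((qm_comm S hw hp (hmw 3)).2 h),
    fun h => p5 ((qm_comm S hw hp (hmw 5)).2 h)⟩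

end Hex

/-- Counts among the members of `common x y` commuting with a path of three. -/
theorem wset_counts (S : Fi23Local D) {x y a b c k : G} (hx : x ∈ D) (hy : y ∈ D) (hxy : ¬ Commute x y)
    (ha : a ∈ common D x y) (hb : b ∈ common D x y) (hc : c ∈ common D x y) (hab : ¬ Commute a b)
    (hac : c ∈ adj D a) (hbc : ¬ Commute b c)
    (hk : k ∈ common D x y ∩ adj D a ∩ adj D b ∩ adj D c) :
    ((common D x y ∩ adj D a ∩ adj D b ∩ adj D c) ∩ adj D k).ncard = 6 ∧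
    ∀ k' ∈ (common D x y ∩ adj D a ∩ adj D b ∩ adj D c) ∩ adj D k,
      ((common D x y ∩ adj D a ∩ adj D b ∩ adj D c) ∩ adj D k ∩ adj D k').ncard = 1 := by
  set W := common D x y ∩ adj D a ∩ adj D b ∩ adj D c with hW
  obtain ⟨⟨⟨hkS, hka⟩, hkb⟩, hkc⟩ := id hk
  have hkD : k ∈ D := hkS.1.1
  have kx := FischerM22.adj_symm hx hkS.1
  have ky := FischerM22.adj_symm hy hkS.2
  have ak := FischerM22.adj_symm ha.1.1 hka
  have bk := FischerM22.adj_symm hb.1.1 hkb
  have ck := FischerM22.adj_symm hc.1.1 hkc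
  have hS := S.localSetup hkD
  have P := qm_farPair S hkD kx ky hxy
  have aS := (qm_common_iff S hkD ak kx ky).2 ha
  have bS := (qm_common_iff S hkD bk kx ky).2 hb
  have cell' : qm D k c ∈ cell (QSet D k) (qm D k x) (qm D k y) (qm D k a) :=
    ⟨(qm_common_iff S hkD ck kx ky).2 hc, (qm_adj_iff S hkD ck ak).2 hac⟩
  have nab : ¬ Commute (qm D k a) (qm D k b) := fun h => hab ((qm_comm S hkD ak bk).1 h)
  have notK : qm D k c ∉ perpSet (QSet D k) (qm D k x) (qm D k y) (qm D k a) (qm D k b) := fun h =>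
    hbc ((qm_comm S hkD bk ck).1 h.2.2.2)
  set K := perpSet (QSet D k) (qm D k x) (qm D k y) (qm D k a) (qm D k b) with hK
  have hiff : ∀ p ∈ adj D k, qm D k p ∈ K ∩ adj (QSet D k) (qm D k c) ↔ p ∈ W := fun p hp => by
    have e1 := qm_common_iff S hkD hp kx ky
    have e2 := qm_adj_iff S hkD hp ak
    have e3 := qm_adj_iff S hkD hp bk
    have e4 := qm_adj_iff S hkD hp ck
    exact ⟨fun ⟨⟨⟨h1, h2⟩, h3⟩, h4⟩ => ⟨⟨⟨e1.1 h1, e2.1 h2⟩, e3.1 h3⟩, e4.1 h4⟩,
      fun ⟨⟨⟨h1, h2⟩, h3⟩, h4⟩ => ⟨⟨⟨e1.2 h1, e2.2 h2⟩, e3.2 h3⟩, e4.2 h4⟩⟩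
  have himg : qm D k '' (W ∩ adj D k) = K ∩ adj (QSet D k) (qm D k c) := by
    ext q
    constructor
    · rintro ⟨p, hp, rfl⟩
      exact (hiff p hp.2).2 hp.1
    · intro hq
      obtain ⟨p, hp, rfl⟩ := exists_lift hq.1.1.1.1.1
      exact ⟨p, ⟨(hiff p hp).1 hq, hp⟩, rfl⟩
  refine ⟨?_, fun k' hk' => ?_⟩
  · rw [← qm_ncard S hkD (Set.inter_subset_right : W ∩ adj D k ⊆ _), himg]
    exact P.perp_out hS aS bS nab cell' notK
  · have k'K : qm D k k' ∈ K := ((hiff k' hk'.2).2 hk'.1).1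
    rw [← qm_ncard S hkD (Set.inter_subset_left.trans Set.inter_subset_right : W ∩ adj D k ∩ adj D k' ⊆ _),
      show qm D k '' (W ∩ adj D k ∩ adj D k')
          = K ∩ adj (QSet D k) (qm D k k') ∩ adj (QSet D k) (qm D k c) from ?_]
    · exact P.perp_line_one hS aS bS nab cell' notK k'K
    ext q
    constructor
    · rintro ⟨p, ⟨⟨h1, h2⟩, h3⟩, rfl⟩
      have h := (hiff p h2).2 h1
      exact ⟨⟨h.1, (qm_adj_iff S hkD h2 hk'.2).2 h3⟩, h.2⟩
    · rintro ⟨⟨h1, h2⟩, h3⟩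
      obtain ⟨p, ⟨hp1, hp2⟩, rfl⟩ : q ∈ qm D k '' (W ∩ adj D k) := himg.symm ▸ ⟨h1, h3⟩
      exact ⟨p, ⟨⟨hp1, hp2⟩, (qm_adj_iff S hkD hp2 hk'.2).1 h2⟩, rfl⟩

/-- Members with the commuting pattern of the diagram Y342, with a further member `x` commuting with all
but `j`. -/
structure Y342 (D : Set G) (x a b c d e f g j h i : G) : Prop where
  base : x ∈ D
  mem : ∀ k ∈ [a, b, c, d, e, f, g, h, i], k ∈ adj D x
  frame : FischerM22.YFrame (QSet D x) (qm D x a) (qm D x b) (qm D x c) (qm D x d) (qm D x e) (qm D x f)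
    (qm D x g) (qm D x h) (qm D x i)
  jD : j ∈ D
  far : ¬ Commute x j
  jg : ¬ Commute g j
  jcomm : ∀ k ∈ [a, b, c, d, e, f, h, i], Commute j k

/-- Frames exist. -/
theorem exists_frame (S : Fi23Local D) :
    ∃ x a b c d e f g j h i, Y342 D x a b c d e f g j h i := by
  classical
  obtain ⟨x, hx, -⟩ := S.two_members
  obtain ⟨y, hy, hyx⟩ := exists_not_commute S.cls S.two_members hx
  have hxy : ¬ Commute x y := fun hc => hyx hc
  obtain ⟨i, hi⟩ : (common D x y).Nonempty := by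
    exact common_nonempty S hx hy hxy
  have hiD : i ∈ D := hi.1.1
  have ix := FischerM22.adj_symm hx hi.1
  have iy := FischerM22.adj_symm hy hi.2
  have hSi := S.localSetup hiD
  have Pi := qm_farPair S hiD ix iy hxy
  -- a path of four, a fifth member and the completions
  obtain ⟨a', b', c', d', f', ⟨a1, b1, c1, d1, f1⟩, ⟨qac, qad, qaf, qbd, qbf, qcf, qdf⟩, ⟨qab, qbc, qcd⟩, hfour⟩ :=
    FischerM22.exists_five Pi hSi
  obtain ⟨a, ai, rfl⟩ := exists_lift a1.1.1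
  obtain ⟨b, bi, rfl⟩ := exists_lift b1.1.1
  obtain ⟨c, ci, rfl⟩ := exists_lift c1.1.1
  obtain ⟨d, di, rfl⟩ := exists_lift d1.1.1
  obtain ⟨f, fi, rfl⟩ := exists_lift f1.1.1
  have aS := (qm_common_iff S hiD ai ix iy).1 a1
  have bS := (qm_common_iff S hiD bi ix iy).1 b1
  have cS := (qm_common_iff S hiD ci ix iy).1 c1
  have dS := (qm_common_iff S hiD di ix iy).1 d1
  have fS := (qm_common_iff S hiD fi ix iy).1 f1
  have cac := (qm_comm S hiD ai ci).1 qac
  have cad := (qm_comm S hiD ai di).1 qad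
  have caf := (qm_comm S hiD ai fi).1 qaf
  have cbd := (qm_comm S hiD bi di).1 qbd
  have cbf := (qm_comm S hiD bi fi).1 qbf
  have ccf := (qm_comm S hiD ci fi).1 qcf
  have cdf := (qm_comm S hiD di fi).1 qdf
  have nab : ¬ Commute a b := fun h => qab ((qm_comm S hiD ai bi).2 h)
  have nbc : ¬ Commute b c := fun h => qbc ((qm_comm S hiD bi ci).2 h)
  have ncd : ¬ Commute c d := fun h => qcd ((qm_comm S hiD ci di).2 h)
  set Cand := {p | p ∈ common D x y ∧ p ∈ adj D i ∧ Commute p a ∧ Commute p b ∧ Commute p c ∧ ¬ Commute p d ∧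
    ¬ Commute p f} with hCand
  have hC4 : 4 ≤ Cand.ncard := by
    refine hfour.trans ((Set.ncard_le_ncard ?_ (Set.toFinite _)).trans (Set.ncard_image_le (f := qm D i) (Set.toFinite Cand)))
    rintro q ⟨q1, qa, qb, qc, qd, qf⟩
    obtain ⟨p, hp, rfl⟩ := exists_lift q1.1.1
    exact ⟨p, ⟨(qm_common_iff S hiD hp ix iy).1 q1, hp, (qm_comm S hiD hp ai).1 qa, (qm_comm S hiD hp bi).1 qb,
      (qm_comm S hiD hp ci).1 qc, fun h => qd ((qm_comm S hiD hp di).2 h),
      fun h => qf ((qm_comm S hiD hp fi).2 h)⟩, rfl⟩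
  obtain ⟨e₀, e0S, e0i, e0a, e0b, e0c, e0d, e0f⟩ : Cand.Nonempty :=
    (Set.ncard_pos (Set.toFinite _)).1 (by omega)
  have patOf : ∀ {e : G}, Commute e a → Commute e b → Commute e c → ¬ Commute e d → ¬ Commute e f →
      ∀ j l, Commute ((![a, b, c, d, e, f] : Fin 6 → G) j) ((![a, b, c, d, e, f] : Fin 6 → G) l)
        ↔ pathMat 6 j l = 0 := by
    intro e ea eb ec ed ef j l
    fin_cases j <;> fin_cases l <;>
      simp [pathMat, Commute.refl, cac, cad, caf, cbd, cbf, ccf, cdf, cac.symm, cad.symm, caf.symm, cbd.symm,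
        cbf.symm, ccf.symm, cdf.symm, ea, eb, ec, ea.symm, eb.symm, ec.symm, nab, nbc, ncd, ed, ef,
        mt Commute.symm nab, mt Commute.symm nbc, mt Commute.symm ncd, mt Commute.symm ed, mt Commute.symm ef]
  set m : Fin 6 → G := ![a, b, c, d, e₀, f] with hm
  have hmi : ∀ j, m j ∈ adj D i := fun j => by fin_cases j <;> assumption
  have hmS : ∀ j, m j ∈ common D x y := fun j => by fin_cases j <;> assumption
  have hpat := patOf e0a e0b e0c e0d e0f
  -- the dual point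
  obtain ⟨g', hg', gc', g5'⟩ := FischerM22.exists_dual_point hSi (qm_mem ix) (fun j => qm D i (m j))
    (fun j => (qm_adj_iff S hiD (hmi j) ix).2 (hmS j).1) (qm_pattern S hiD hmi hpat)
  obtain ⟨g, gi, rfl⟩ := exists_lift hg'.1
  have gx : g ∈ adj D x := (qm_adj_iff S hiD gi ix).1 hg'
  have gc : ∀ j, j ≠ 5 → Commute g (m j) := fun j hj => (qm_comm S hiD gi (hmi j)).1 (gc' j hj)
  have ngf : ¬ Commute g f := fun h => g5' ((qm_comm S hiD gi fi).2 h)
  have cga : Commute g a := gc 0 (by decide)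
  have cgb : Commute g b := gc 1 (by decide)
  have cgc : Commute g c := gc 2 (by decide)
  have cgd : Commute g d := gc 3 (by decide)
  have ngy : ¬ Commute g y := fun hc => by
    have gS : g ∈ common D x y := ⟨gx, gi.1, fun e => hxy (e ▸ gx.2.2), hc.symm⟩
    have h4 : ∀ j l : Fin 4, pathMat 4 j l = pathMat 6 ⟨j.val, by omega⟩ ⟨l.val, by omega⟩ := fun _ _ => rfl
    have := Pi.a4_unique hSi (fun j : Fin 4 => qm D i (m ⟨j.val, by omega⟩))
      (fun j => (qm_common_iff S hiD (hmi _) ix iy).2 (hmS _))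
      (fun j l => (qm_pattern S hiD hmi hpat _ _).trans (by rw [h4]))
      ((qm_common_iff S hiD gi ix iy).2 gS) f1
      (fun j => (qm_comm S hiD gi (hmi _)).2 (gc _ (by simp only [ne_eq, Fin.ext_iff]; omega)))
      (fun j => (qm_comm S hiD fi (hmi _)).2 (by
        fin_cases j <;> simp [hm, caf.symm, cbf.symm, ccf.symm, cdf.symm]))
    exact ngf ((qm_inj S hiD gi fi this) ▸ Commute.refl g)
  have ax := aS.1
  have cx := cS.1
  have n_ac : a ≠ c := ne_of_commute cad ncd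
  have n_ga : g ≠ a := (ne_of_commute caf ngf).symm
  have n_gc : g ≠ c := (ne_of_commute ccf ngf).symm
  have hT : IsTriple D a c g :=
    ⟨aS.1.1, cS.1.1, gi.1, n_ac, n_ga.symm, n_gc.symm, cac, cga.symm, cgc.symm⟩
  -- the two hexad members
  obtain ⟨ei, eiH, eix, eib, eid, eif⟩ := exists_hex_dual S hiD ix m hmi (fun j => (hmS j).1) hpat gi gx gc ngf
  obtain ⟨ex, exH, exi, exb, exd, exf⟩ :=
    exists_hex_dual S hx hi.1 m (fun j => (hmS j).1) hmi hpat gx gi gc ngf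
  change ei ∈ hexG D i a c g at eiH
  change ex ∈ hexG D x a c g at exH
  change ¬ Commute ei d at eid
  change ¬ Commute ei f at eif
  change ¬ Commute ex d at exd
  change ¬ Commute ex f at exf
  have neOf : ∀ {p : G}, ¬ Commute p d → ¬ Commute p f → p ≠ a ∧ p ≠ c ∧ p ≠ g := fun pd pf =>
    ⟨(ne_of_commute cad pd).symm, (ne_of_commute ccf pf).symm, (ne_of_commute cgd pd).symm⟩
  have hne : ex ≠ ei := by
    intro h
    subst h
    obtain ⟨n1, n2, n3⟩ := neOf exd exf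
    obtain ⟨hT', hca, hga, hea, hxH⟩ := hub_mem S hx ax cx gx hT exH n1 n2 n3
    obtain ⟨-, -, -, -, hiH⟩ := hub_mem S hiD ai ci gi hT eiH n1 n2 n3
    obtain ⟨cH, gH, -⟩ := self_mem_hexG hca hga hea hT'
    exact ngf (hexG_kill S aS.1.1 hca hga hea hT' cH hxH hiH gH cx.2.1 ci.2.1 ix.2.1
      ⟨fS.1.1, ne_of_commute cbf.symm nab, caf⟩ ccf.symm fS.1.2.2.symm fi.2.2.symm)
  -- counting the completions
  set X := {p | p ∈ adj D i ∧ p ∈ adj D x ∧ Commute p a ∧ Commute p b ∧ Commute p c ∧ ¬ Commute p d ∧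
    ¬ Commute p f} with hX
  set g₁ := f * g * f⁻¹ with hg₁
  have fL := mem_loc_of_adj fi
  have g1i : g₁ ∈ adj D i := conj_mem_adj_loc S fL gi
  obtain ⟨hX0, hX1⟩ := FischerM22.dual_cover hSi (qm_mem ix) (fun j => qm D i (m j))
    (fun j => (qm_adj_iff S hiD (hmi j) ix).2 (hmS j).1) (qm_pattern S hiD hmi hpat)
    ((qm_adj_iff S hiD gi ix).2 gx) (fun j hj => (qm_comm S hiD gi (hmi j)).2 (gc j hj))
  set X0 := {p | p ∈ X ∧ Commute p g} with hX0def
  set X1 := {p | p ∈ X ∧ Commute p g₁} with hX1def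
  have h03 : X0.ncard ≤ 3 := by
    refine le_trans ?_ hX0
    rw [← qm_ncard S hiD (s := X0) (fun p hp => hp.1.1)]
    refine Set.ncard_le_ncard ?_ (Set.toFinite _)
    rintro _ ⟨p, ⟨⟨pi', px, pa, pb, pc, pd, pf⟩, pg⟩, rfl⟩
    exact ⟨(qm_adj_iff S hiD pi' ix).2 px, (qm_comm S hiD pi' ai).2 pa, (qm_comm S hiD pi' bi).2 pb,
      (qm_comm S hiD pi' ci).2 pc, fun h => pd ((qm_comm S hiD pi' di).1 h),
      fun h => pf ((qm_comm S hiD pi' fi).1 h), (qm_comm S hiD pi' gi).2 pg⟩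
  have hcov : ∀ p ∈ X, p ∈ X0 ∨ p ∈ X1 := by
    intro p hp
    obtain ⟨pi', px, pa, pb, pc, pd, pf⟩ := id hp
    by_cases pg : Commute p g
    · exact Or.inl ⟨hp, pg⟩
    refine Or.inr ⟨hp, (qm_comm S hiD pi' g1i).1 ?_⟩
    rw [hg₁, qm_conj fL (mem_loc_of_adj gi)]
    exact hX1 _ ((qm_adj_iff S hiD pi' ix).2 px) ((qm_comm S hiD pi' ai).2 pa) ((qm_comm S hiD pi' bi).2 pb)
      ((qm_comm S hiD pi' ci).2 pc) (fun h => pd ((qm_comm S hiD pi' di).1 h))
      (fun h => pf ((qm_comm S hiD pi' fi).1 h)) fun h => pg ((qm_comm S hiD pi' gi).1 h)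
  set φ := fun p => f * p * f⁻¹ with hφ
  have ff : ∀ q, φ (φ q) = q := fun q => by
    have hh := mul_self S.cls.1 fS.1.1
    show f * (f * q * f⁻¹) * f⁻¹ = q
    rw [inv_eq S.cls.1 fS.1.1]
    calc f * (f * q * f) * f = f * f * q * (f * f) := by simp only [mul_assoc]
      _ = q := by rw [hh, one_mul, mul_one]
  have fix : ∀ {q}, Commute f q → φ q = q := fun {q} h => by
    show f * q * f⁻¹ = q
    rw [h.eq, mul_inv_cancel_right]
  have cmap : ∀ {p q}, Commute p q → Commute (φ p) (φ q) := fun {p q} h =>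
    h.map (MulAut.conj f).toMonoidHom
  have cfix : ∀ {p q}, Commute f q → (Commute (φ p) q ↔ Commute p q) := fun {p q} hq => by
    refine ⟨fun h => ?_, fun h => ?_⟩
    · have := cmap h
      rwa [ff, fix hq] at this
    · have := cmap h
      rwa [fix hq] at this
  have hφX : ∀ p ∈ X, φ p ∈ X := by
    rintro p ⟨pi', px, pa, pb, pc, pd, pf⟩
    exact ⟨conj_mem_adj_loc S fL pi', conj_mem_adj_loc S (mem_loc_of_adj fS.1) px, (cfix caf.symm).2 pa,
      (cfix cbf.symm).2 pb, (cfix ccf.symm).2 pc, mt (cfix cdf.symm).1 pd, mt (cfix (Commute.refl f)).1 pf⟩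
  have h13 : X1.ncard ≤ 3 := by
    refine le_trans ((Set.ncard_le_ncard ?_ (Set.toFinite _)).trans
      (Set.ncard_image_le (f := φ) (Set.toFinite X0))) h03
    rintro p ⟨hp, pg⟩
    refine ⟨φ p, ⟨hφX p hp, ?_⟩, ff p⟩
    have := cmap pg
    rwa [show φ g₁ = g from ff g] at this
  have hei : ei ∈ X0 := ⟨⟨eiH.1, eix, eiH.2.1, eib, eiH.2.2.1, eid, eif⟩, eiH.2.2.2.1⟩
  have hex : ex ∈ X0 := ⟨⟨exi, exH.1, exH.2.1, exb, exH.2.2.1, exd, exf⟩, exH.2.2.2.1⟩
  have hei1 : φ ei ∈ X1 := ⟨hφX _ hei.1, cmap hei.2⟩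
  have neiy : ¬ Commute ei y := fun hc => by
    obtain ⟨n1, n2, -⟩ := neOf eid eif
    obtain ⟨aH, cH, gH⟩ := self_mem_hexG ai ci gi hT
    exact ngy (hexG_kill S hiD ai ci gi hT aH cH eiH gH n_ac n1.symm n2.symm iy aS.2.2.2 cS.2.2.2 hc.symm)
  have exC : ex ∈ Cand := by
    by_contra hnot
    have hsub : Cand ⊆ (X0 \ {ei, ex}) ∪ (X1 \ {φ ei}) := by
      rintro p hp
      obtain ⟨pS, pi', pa, pb, pc, pd, pf⟩ := id hp
      have py : Commute p y := pS.2.2.2.symm
      rcases hcov p ⟨pi', pS.1, pa, pb, pc, pd, pf⟩ with h | h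
      · refine Or.inl ⟨h, ?_⟩
        rintro (rfl | rfl)
        exacts [neiy py, hnot hp]
      · refine Or.inr ⟨h, ?_⟩
        rintro rfl
        exact neiy ((cfix fS.2.2.2.symm).1 py)
    have h1 := Set.ncard_le_ncard hsub (Set.toFinite _)
    have h2 := Set.ncard_union_le (X0 \ {ei, ex}) (X1 \ {φ ei})
    rw [Set.ncard_sdiff (Set.insert_subset hei (Set.singleton_subset_iff.2 hex)), Set.ncard_pair hne.symm,
      Set.ncard_sdiff_singleton_of_mem hei1] at h2
    omega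
  obtain ⟨eS, ei', cea, ceb, cec, ned, nef⟩ := exC
  have ceg : Commute ex g := exH.2.2.2.1
  set e := ex with he
  have hpat' := patOf cea ceb cec ned nef
  -- the member h
  set W := common D x y ∩ adj D a ∩ adj D b ∩ adj D c with hW
  have n_ie : i ≠ e := ei'.2.1.symm
  have iW : i ∈ W := ⟨⟨⟨hi, FischerM22.adj_symm hiD ai⟩, FischerM22.adj_symm hiD bi⟩, FischerM22.adj_symm hiD ci⟩
  have eW : e ∈ W := ⟨⟨⟨eS, eS.1.1, (ne_of_commute cad ned).symm, cea.symm⟩,
    eS.1.1, (ne_of_commute cbd ned).symm, ceb.symm⟩, eS.1.1, (ne_of_commute ccf nef).symm, cec.symm⟩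
  have fW : f ∈ W := ⟨⟨⟨fS, fS.1.1, ne_of_commute cbf.symm nab, caf⟩,
    fS.1.1, ne_of_commute ccf.symm nbc, cbf⟩, fS.1.1, ne_of_commute cdf.symm ncd, ccf⟩
  have hac : c ∈ adj D a := ⟨cS.1.1, n_ac.symm, cac⟩
  have cnt : ∀ {k : G}, k ∈ W → (W ∩ adj D k).ncard = 6 ∧
      ∀ k' ∈ W ∩ adj D k, (W ∩ adj D k ∩ adj D k').ncard = 1 := fun hk =>
    wset_counts S hx hy hxy aS bS cS nab hac nbc hk
  have hcl : ∀ k ∈ W, ∀ k' ∈ W, k * k' * k⁻¹ ∈ W := fun k hk k' hk' =>
    ⟨⟨⟨⟨conj_mem_adj_loc S (mem_loc_of_adj hk.1.1.1.1) hk'.1.1.1.1,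
      conj_mem_adj_loc S (mem_loc_of_adj hk.1.1.1.2) hk'.1.1.1.2⟩,
      conj_mem_adj_loc S (mem_loc_of_adj hk.1.1.2) hk'.1.1.2⟩,
      conj_mem_adj_loc S (mem_loc_of_adj hk.1.2) hk'.1.2⟩,
      conj_mem_adj_loc S (mem_loc_of_adj hk.2) hk'.2⟩
  obtain ⟨six, hline⟩ := cnt eW
  have iWe : i ∈ W ∩ adj D e := ⟨iW, FischerM22.adj_symm hiD ei'⟩
  obtain ⟨j₀, ⟨jW, je⟩, nij⟩ : ∃ j ∈ W ∩ adj D e, ¬ Commute i j := by
    by_contra hcon
    have hsub : W ∩ adj D e ⊆ insert i (W ∩ adj D e ∩ adj D i) := fun p hp => by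
      by_cases h : p = i
      · exact Or.inl h
      · exact Or.inr ⟨hp, hp.1.1.1.1.1.1, h, by_contra fun hc => hcon ⟨p, hp, hc⟩⟩
    have h1 := Set.ncard_le_ncard hsub (Set.toFinite _)
    have h2 := Set.ncard_insert_le i (W ∩ adj D e ∩ adj D i)
    rw [six] at h1
    rw [hline i iWe] at h2
    omega
  obtain ⟨h, hhW, chf, che, nhi⟩ : ∃ h ∈ W, Commute h f ∧ Commute h e ∧ ¬ Commute h i := by
    by_cases hjf : Commute j₀ f
    · exact ⟨j₀, jW, hjf, je.2.2.symm, mt Commute.symm nij⟩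
    obtain ⟨z, hz⟩ := Set.ncard_eq_one.1 ((cnt iW).2 e ⟨eW, ei'⟩)
    have hzm : z ∈ W ∩ adj D i ∩ adj D e := hz.symm ▸ Set.mem_singleton z
    have haD : a ∈ D := aS.1.1
    have xa := FischerM22.adj_symm hx aS.1
    have ya := FischerM22.adj_symm hy aS.2
    set m4 : Fin 4 → G := ![i, j₀, f, e] with hm4
    have hm4W : ∀ j, m4 j ∈ W := fun j => by fin_cases j <;> assumption
    have hWa : ∀ p ∈ W, p ∈ adj D a := fun p hp => hp.1.1.2
    have p4 : ∀ j l, Commute (m4 j) (m4 l) ↔ pathMat 4 j l = 0 := by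
      intro j l
      have q1 : Commute i f := fi.2.2
      have q2 : Commute i e := ei'.2.2
      have q3 : Commute j₀ e := je.2.2.symm
      fin_cases j <;> fin_cases l <;>
        simp [hm4, pathMat, Commute.refl, q1, q2, q3, q1.symm, q2.symm, q3.symm, nij, hjf, nef,
          mt Commute.symm nij, mt Commute.symm hjf, mt Commute.symm nef]
    obtain ⟨_, ⟨h, hhW, rfl⟩, q2, q3, q0⟩ := FischerM22.third_point (S.localSetup haD)
      (qm_farPair S haD xa ya hxy) ((qm_common_iff S haD hac xa ya).2 cS) (qm D a '' W)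
      (by
        rintro _ ⟨p, hp, rfl⟩
        exact ⟨(qm_common_iff S haD (hWa p hp) xa ya).2 hp.1.1.1, (qm_adj_iff S haD (hWa p hp) hac).2 hp.2⟩)
      (by
        rintro _ ⟨k, hk, rfl⟩ _ ⟨k', hk', rfl⟩
        exact ⟨_, hcl k hk k' hk', qm_conj (mem_loc_of_adj (hWa k hk)) (mem_loc_of_adj (hWa k' hk'))⟩)
      (fun j => qm D a (m4 j)) (fun j => ⟨_, hm4W j, rfl⟩)
      (qm_pattern S haD (fun j => hWa _ (hm4W j)) p4) (z := qm D a z)
      ⟨⟨⟨z, hzm.1.1, rfl⟩, (qm_adj_iff S haD (hWa z hzm.1.1) (hWa i iW)).2 hzm.1.2⟩,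
        (qm_adj_iff S haD (hWa z hzm.1.1) (hWa e eW)).2 hzm.2⟩
      (by
        rintro _ ⟨⟨⟨p, hp, rfl⟩, h1⟩, h2⟩
        have : p ∈ W ∩ adj D i ∩ adj D e := ⟨⟨hp, (qm_adj_iff S haD (hWa p hp) (hWa i iW)).1 h1⟩,
          (qm_adj_iff S haD (hWa p hp) (hWa e eW)).1 h2⟩
        rw [hz, Set.mem_singleton_iff] at this
        rw [this])
    exact ⟨h, hhW, (qm_comm S haD (hWa h hhW) (hWa f fW)).1 q2, (qm_comm S haD (hWa h hhW) (hWa e eW)).1 q3,
      fun hc => q0 ((qm_comm S haD (hWa h hhW) (hWa i iW)).2 hc)⟩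
  obtain ⟨⟨⟨hS', hha⟩, hhb⟩, hhc⟩ := id hhW
  have cif : Commute i f := fi.2.2
  have nhd : ¬ Commute h d := fun hc => by
    have hfD : f ∈ D := fS.1.1
    have hif : i ∈ adj D f := FischerM22.adj_symm hiD fi
    have hhf : h ∈ adj D f := ⟨hS'.1.1, (ne_of_commute cif.symm nhi).symm, chf.symm⟩
    have xf := FischerM22.adj_symm hx fS.1
    have yf := FischerM22.adj_symm hy fS.2
    set m5 : Fin 4 → G := ![a, b, c, d] with hm5
    have hm5f : ∀ j, m5 j ∈ adj D f := fun j => by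
      fin_cases j
      exacts [⟨aS.1.1, (ne_of_commute cbf.symm nab).symm, caf.symm⟩,
        ⟨bS.1.1, (ne_of_commute ccf.symm nbc).symm, cbf.symm⟩,
        ⟨cS.1.1, (ne_of_commute cdf.symm ncd).symm, ccf.symm⟩,
        ⟨dS.1.1, (ne_of_commute ccf.symm (mt Commute.symm ncd)).symm, cdf.symm⟩]
    have := (qm_farPair S hfD xf yf hxy).a4_unique (S.localSetup hfD) (fun j => qm D f (m5 j))
      (fun j => (qm_common_iff S hfD (hm5f j) xf yf).2 (by fin_cases j <;> assumption))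
      (qm_pattern S hfD hm5f (fun j l => by
        fin_cases j <;> fin_cases l <;>
          simp [hm5, pathMat, Commute.refl, cac, cad, cbd, cac.symm, cad.symm, cbd.symm, nab, nbc, ncd,
            mt Commute.symm nab, mt Commute.symm nbc, mt Commute.symm ncd]))
      ((qm_common_iff S hfD hhf xf yf).2 hS') ((qm_common_iff S hfD hif xf yf).2 hi)
      (fun j => (qm_comm S hfD hhf (hm5f j)).2 (by
        fin_cases j
        exacts [hha.2.2.symm, hhb.2.2.symm, hhc.2.2.symm, hc]))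
      (fun j => (qm_comm S hfD hif (hm5f j)).2 (by
        fin_cases j
        exacts [ai.2.2, bi.2.2, ci.2.2, di.2.2]))
    exact nhi ((qm_inj S hfD hhf hif this) ▸ Commute.refl i)
  have chg : Commute h g := by
    obtain ⟨n1, n2, -⟩ := neOf ned nef
    obtain ⟨aH, cH, gH⟩ := self_mem_hexG ax cx gx hT
    exact (hexG_kill S hx ax cx gx hT aH cH exH gH n_ac n1.symm n2.symm hS'.1 hha.2.2.symm hhc.2.2.symm che).symm
  -- the frame
  have cga' : g ∈ adj D a := ⟨gi.1, n_ga, cga.symm⟩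
  have cgb' : g ∈ adj D b := ⟨gi.1, (ne_of_commute cbf ngf).symm, cgb.symm⟩
  have dA : d ∈ adj D a := ⟨dS.1.1, ne_of_commute cbd.symm nab, cad⟩
  have dB : d ∈ adj D b := ⟨dS.1.1, ne_of_commute cad.symm (mt Commute.symm nab), cbd⟩
  set m6 : Fin 6 → G := ![i, h, d, e, f, g] with hm6
  have h6x : ∀ j, m6 j ∈ adj D x := fun j => by
    fin_cases j
    exacts [hi.1, hS'.1, dS.1, eS.1, fS.1, gx]
  refine ⟨x, a, b, c, d, e, f, g, y, h, i, hx, ?_,
    ⟨qm_farPair S hx aS.1 bS.1 nab, fun j => ?_, fun j l => ?_, (qm_adj_iff S hx cS.1 aS.1).2 hac,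
      fun hc => nbc ((qm_comm S hx bS.1 cS.1).1 hc), fun j => ?_⟩, hy, hxy, ngy, ?_⟩
  · simp only [List.forall_mem_cons, List.not_mem_nil, IsEmpty.forall_iff, implies_true, and_true]
    exact ⟨aS.1, bS.1, cS.1, dS.1, eS.1, fS.1, gx, hS'.1, hi.1⟩
  · have h : (![qm D x i, qm D x h, qm D x d, qm D x e, qm D x f, qm D x g] : Fin 6 → QL D x) j
        = qm D x (m6 j) := by fin_cases j <;> rfl
    rw [h, qm_common_iff S hx (h6x j) aS.1 bS.1]
    fin_cases j
    exacts [⟨iW.1.1.2, iW.1.2⟩, ⟨hha, hhb⟩, ⟨dA, dB⟩, ⟨eW.1.1.2, eW.1.2⟩, ⟨fW.1.1.2, fW.1.2⟩, ⟨cga', cgb'⟩]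
  · have h : ∀ j, (![qm D x i, qm D x h, qm D x d, qm D x e, qm D x f, qm D x g] : Fin 6 → QL D x) j
        = qm D x (m6 j) := fun j => by fin_cases j <;> rfl
    rw [h, h, qm_comm S hx (h6x j) (h6x l)]
    have q1 : Commute i d := di.2.2
    have q2 : Commute i e := ei'.2.2
    have q3 : Commute i g := gi.2.2
    fin_cases j <;> fin_cases l <;>
      simp [hm6, pathMat, Commute.refl, q1, q2, q3, cif, cdf, ceg, chg, che, chf, cgd, q1.symm, q2.symm, q3.symm,
        cif.symm, cdf.symm, ceg.symm, chg.symm, che.symm, chf.symm, cgd.symm, nhi, nhd, ned, nef, ngf,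
        mt Commute.symm nhi, mt Commute.symm nhd, mt Commute.symm ned, mt Commute.symm nef, mt Commute.symm ngf]
  · have h : (![qm D x i, qm D x h, qm D x d, qm D x e, qm D x f, qm D x g] : Fin 6 → QL D x) j
        = qm D x (m6 j) := by fin_cases j <;> rfl
    rw [h, qm_comm S hx cS.1 (h6x j)]
    fin_cases j <;>
      simp [hm6, ncd, iW.2.2.2, hhc.2.2, ccf, cec.symm, cgc.symm]
  · simp only [List.forall_mem_cons, List.not_mem_nil, IsEmpty.forall_iff, implies_true, and_true]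
    exact ⟨aS.2.2.2, bS.2.2.2, cS.2.2.2, dS.2.2.2, eS.2.2.2, fS.2.2.2, hS'.2.2.2, hi.2.2.2⟩


variable {G : Type*} [Group G] [Finite G] {D : Set G} {x a b c d e f g j h i : G}

namespace Y342

theorem facts (Q : Y342 D x a b c d e f g j h i) (S : Fi23Local D) :
    (Commute a c ∧ Commute a d ∧ Commute a e ∧ Commute a f ∧ Commute a g ∧ Commute a h ∧ Commute a i) ∧
    (Commute b d ∧ Commute b e ∧ Commute b f ∧ Commute b g ∧ Commute b h ∧ Commute b i) ∧
    (Commute c e ∧ Commute c f ∧ Commute c g ∧ Commute c h ∧ Commute c i) ∧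
    (Commute d f ∧ Commute d g ∧ Commute d i) ∧
    (Commute e g ∧ Commute e h ∧ Commute e i) ∧ (Commute f h ∧ Commute f i) ∧ (Commute g h ∧ Commute g i) ∧
    (¬ Commute a b ∧ ¬ Commute b c ∧ ¬ Commute c d ∧ ¬ Commute d e ∧ ¬ Commute d h ∧ ¬ Commute e f ∧
      ¬ Commute f g ∧ ¬ Commute h i) := by
  have m := Q.mem
  simp only [List.forall_mem_cons, List.not_mem_nil, IsEmpty.forall_iff, implies_true, and_true] at m
  obtain ⟨ma, mb, mc, md, me, mf, mg, mh, mi⟩ := m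
  have key := Q.frame.facts
  simpa only [qm_comm S Q.base, ma, mb, mc, md, me, mf, mg, mh, mi] using key

theorem memD (Q : Y342 D x a b c d e f g j h i) :
    a ∈ D ∧ b ∈ D ∧ c ∈ D ∧ d ∈ D ∧ e ∈ D ∧ f ∈ D ∧ g ∈ D ∧ h ∈ D ∧ i ∈ D := by
  have m := Q.mem
  simp only [List.forall_mem_cons, List.not_mem_nil, IsEmpty.forall_iff, implies_true, and_true] at m
  exact ⟨m.1.1, m.2.1.1, m.2.2.1.1, m.2.2.2.1.1, m.2.2.2.2.1.1, m.2.2.2.2.2.1.1, m.2.2.2.2.2.2.1.1,
    m.2.2.2.2.2.2.2.1.1, m.2.2.2.2.2.2.2.2.1⟩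

/-- A word killed in the local quotient at `x` and commuting with `j` is trivial. -/
theorem eq_one (Q : Y342 D x a b c d e f g j h i) (S : Fi23Local D) {w : G} (hw : w ∈ Loc D x)
    (h1 : qm D x w = 1) (hj : Commute j w) : w = 1 := by
  rw [qm_of_mem hw] at h1
  rcases (mem_center_loc_iff S Q.base _).1 ((QuotientGroup.eq_one_iff _).1 h1) with h | h
  · exact h
  · exact absurd (show Commute x j from h ▸ hj.symm) Q.far

theorem qm_pow {w : G} (hw : w ∈ Loc D x) (n : ℕ) : qm D x (w ^ n) = qm D x w ^ n := by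
  rw [qm_of_mem (pow_mem hw n), qm_of_mem hw, ← map_pow]
  rfl

theorem rel_spider (Q : Y342 D x a b c d e f g j h i) (S : Fi23Local D) :
    (d * c * b * d * e * f * d * h * i) ^ 10 = 1 := by
  have L := fun k (hk : k ∈ [a, b, c, d, e, f, g, h, i]) => mem_loc_of_adj (Q.mem k hk)
  have la := L a (by simp); have lb := L b (by simp); have lc := L c (by simp); have ld := L d (by simp)
  have le := L e (by simp); have lf := L f (by simp); have lh := L h (by simp); have li := L i (by simp)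
  have l1 := mul_mem ld lc
  have l2 := mul_mem l1 lb
  have l3 := mul_mem l2 ld
  have l4 := mul_mem l3 le
  have l5 := mul_mem l4 lf
  have l6 := mul_mem l5 ld
  have l7 := mul_mem l6 lh
  have l8 := mul_mem l7 li
  refine Q.eq_one S (pow_mem l8 _) ?_ (Commute.pow_right ?_ _)
  · rw [qm_pow l8, qm_mul l7 li, qm_mul l6 lh, qm_mul l5 ld, qm_mul l4 lf, qm_mul l3 le, qm_mul l2 ld,
      qm_mul l1 lb, qm_mul ld lc]
    exact Q.frame.rel_spider (S.localSetup Q.base)
  · have J := Q.jcomm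
    simp only [List.forall_mem_cons, List.not_mem_nil, IsEmpty.forall_iff, implies_true, and_true] at J
    obtain ⟨-, jb, jc, jd, je, jf, jh, ji⟩ := J
    exact (((((((jd.mul_right jc).mul_right jb).mul_right jd).mul_right je).mul_right jf).mul_right jd).mul_right
      jh).mul_right ji

theorem rel_a (Q : Y342 D x a b c d e f g j h i) (S : Fi23Local D) :
    (a * b * c * d * e * f * h) ^ 9 = 1 := by
  have L := fun k (hk : k ∈ [a, b, c, d, e, f, g, h, i]) => mem_loc_of_adj (Q.mem k hk)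
  have la := L a (by simp); have lb := L b (by simp); have lc := L c (by simp); have ld := L d (by simp)
  have le := L e (by simp); have lf := L f (by simp); have lh := L h (by simp)
  have l1 := mul_mem la lb
  have l2 := mul_mem l1 lc
  have l3 := mul_mem l2 ld
  have l4 := mul_mem l3 le
  have l5 := mul_mem l4 lf
  have l6 := mul_mem l5 lh
  refine Q.eq_one S (pow_mem l6 _) ?_ (Commute.pow_right ?_ _)
  · rw [qm_pow l6, qm_mul l5 lh, qm_mul l4 lf, qm_mul l3 le, qm_mul l2 ld, qm_mul l1 lc, qm_mul la lb]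
    exact Q.frame.rel_a (S.localSetup Q.base)
  · have J := Q.jcomm
    simp only [List.forall_mem_cons, List.not_mem_nil, IsEmpty.forall_iff, implies_true, and_true] at J
    obtain ⟨ja, jb, jc, jd, je, jf, jh, -⟩ := J
    exact (((((ja.mul_right jb).mul_right jc).mul_right jd).mul_right je).mul_right jf).mul_right jh

end Y342

/-- The assignment of a frame to the generators. -/
def frameGen (a b c d e f g j h i : G) : Cfsg.Spor.Fi23.Gen → G
  | .a => a
  | .b => b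
  | .c => c
  | .d => d
  | .e => e
  | .f => f
  | .g => g
  | .j => j
  | .h => h
  | .i => i

theorem frame_relators (S : Fi23Local D) (Q : Y342 D x a b c d e f g j h i) :
    ∀ r ∈ Cfsg.Spor.coxRelators Cfsg.Spor.Fi23.edges ∪ {r | r ∈ Cfsg.Spor.Fi23.extra},
      FreeGroup.lift (frameGen a b c d e f g j h i) r = 1 := by
  obtain ⟨⟨ac, ad, ae, af, ag, ah, ai⟩, ⟨bd, be, bf, bg, bh, bi⟩, ⟨ce, cf, cg, ch, ci⟩, ⟨df, dg, di⟩,
    ⟨eg, eh, ei⟩, ⟨fh, fi⟩, ⟨gh, gi⟩, nab, nbc, ncd, nde, ndh, nef, nfg, nhi⟩ := Q.facts S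
  obtain ⟨aD, bD, cD, dD, eD, fD, gD, hD, iD⟩ := Q.memD
  have jD := Q.jD
  have ngj := Q.jg
  have J := Q.jcomm
  simp only [List.forall_mem_cons, List.not_mem_nil, IsEmpty.forall_iff, implies_true, and_true] at J
  obtain ⟨ja, jb, jc, jd, je, jf, jh, ji⟩ := J
  rintro r (⟨p, -, q, -, rfl⟩ | hr)
  · rw [map_pow, map_mul, FreeGroup.lift_apply_of, FreeGroup.lift_apply_of]
    have h2 : ∀ {p q : G}, p ∈ D → q ∈ D → Commute p q → (p * q) ^ 2 = 1 := fun hp hq hc =>
      (commute_iff_sq S.cls.1 hp hq).1 hc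
    have h3 : ∀ {p q : G}, p ∈ D → q ∈ D → ¬ Commute p q → (p * q) ^ 3 = 1 := fun hp hq hc =>
      pow_three_of_not_commute S.cls.1 hp hq hc
    cases p <;> cases q <;>
      simp only [Cfsg.Spor.coxLabel, Cfsg.Spor.Fi23.edges, List.find?_cons, List.find?_nil, decide_true,
        decide_false, and_true, true_and, and_false, false_and, or_false, false_or, or_true, true_or, reduceCtorEq,
        reduceIte, frameGen, Bool.false_eq_true] <;>
      first
        | (rw [pow_one]; exact mul_self S.cls.1 (by assumption))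
        | exact h2 (by assumption) (by assumption) (by first | assumption | exact Commute.symm (by assumption))
        | exact h3 (by assumption) (by assumption) (by first | assumption | exact mt Commute.symm (by assumption))
  · simp only [Cfsg.Spor.Fi23.extra, Set.mem_ofPred_eq, List.mem_cons, List.not_mem_nil, or_false] at hr
    rcases hr with rfl | rfl <;>
      simp only [map_pow, map_mul, FreeGroup.lift_apply_of, frameGen]
    exacts [Q.rel_spider S, Q.rel_a S]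

/-- The map of the presented group given by a frame. -/
noncomputable def frameHom (S : Fi23Local D) (Q : Y342 D x a b c d e f g j h i) : Cfsg.Spor.Fi23 →* G :=
  PresentedGroup.toGroup (frame_relators S Q)


/-- With the centralisers of members generated by their neighbours the group is the presented Fi23. -/
theorem iso_of_local (S : Fi23Local D)
    (hcent : ∀ a ∈ D, Subgroup.centralizer ({a} : Set G) = Loc D a) :
    Nonempty (G ≃* Cfsg.Spor.Fi23) := by
  obtain ⟨hs, hcard⟩ := Cfsg.Agent.S1697.result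
  obtain ⟨x, a, b, c, d, e, f, g, j, h, i, Q⟩ := exists_frame S
  haveI := hs
  have : Finite Cfsg.Spor.Fi23 := Nat.finite_of_card_ne_zero (by rw [hcard]; norm_num)
  set φ := frameHom S Q with hφ
  have hinj : Function.Injective φ := by
    rw [← MonoidHom.ker_eq_bot_iff]
    refine (hs.eq_bot_or_eq_top_of_normal φ.ker inferInstance).resolve_right fun htop => ?_
    have h1 : φ (PresentedGroup.of Cfsg.Spor.Fi23.Gen.j) = 1 := by
      rw [← MonoidHom.mem_ker, htop]; exact Subgroup.mem_top _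
    rw [hφ, frameHom, PresentedGroup.toGroup.of] at h1
    exact ne_one S.cls.1 Q.jD h1
  -- the squeeze
  obtain ⟨u, hu, -⟩ := S.two_members
  obtain ⟨w, hw, huw⟩ := exists_not_commute S.cls S.two_members hu
  have hmul := far_mul_common S hu hw huw
  obtain ⟨hs1, -⟩ := common_bounds S hu hw huw
  have hfar : {y | y ∈ D ∧ ¬ Commute u y}.ncard ≤ 28160 := by
    have h1 := Nat.mul_le_mul_left {y | y ∈ D ∧ ¬ Commute u y}.ncard hs1
    rw [hmul] at h1
    omega
  have hsub : D ⊆ insert u (adj D u ∪ {y | y ∈ D ∧ ¬ Commute u y}) := by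
    intro y hy
    by_cases h1 : y = u
    · exact Or.inl h1
    by_cases h2 : Commute u y
    · exact Or.inr (Or.inl ⟨hy, h1, h2⟩)
    · exact Or.inr (Or.inr ⟨hy, h2⟩)
  have hD : D.ncard ≤ 31671 := by
    have h1 := (Set.ncard_le_ncard hsub (Set.toFinite _)).trans
      ((Set.ncard_insert_le _ _).trans (Nat.succ_le_succ (Set.ncard_union_le _ _)))
    rw [adj_ncard S hu] at h1
    omega
  have hle : Nat.card G ≤ Nat.card Cfsg.Spor.Fi23 := by
    rw [card_centralizer_mul_class S.cls hu, hcent u hu, loc_card S hu, hcard]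
    exact Nat.mul_le_mul_right 129123503308800 hD
  have hbij : Function.Bijective φ :=
    (Nat.bijective_iff_injective_and_card φ).2 ⟨hinj, le_antisymm (Nat.card_le_card_of_injective φ hinj) hle⟩
  exact ⟨(MulEquiv.ofBijective φ hbij).symm⟩

end Cfsg.Agent.TransCentFi23.Loc23
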