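/-
The component of an involution with centraliser a double cover of a group of type M(22) generates a group
isomorphic to Fi23, with the component as its class of 3-transpositions.
-/
import Cfsg.Agent.Lib.TransCentFi23.Component
import Cfsg.Agent.Lib.TransCentFi23.Squeeze
import Cfsg.Agent.Lib.FischerM23.Unique
import Cfsg.Agent.Lib.FischerM23.Iso
import Cfsg.Agent.Lib.FischerM24.Transport

set_option autoImplicit false
set_option linter.unusedSectionVars false

namespace Cfsg.Agent.TransCentFi23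

open Cfsg.Agent.ThreeTrans Cfsg.Agent.ThreeTransSU Relation
open Cfsg.Agent.FischerM22 (adj_symm)
open Cfsg.Agent.TransCentFi23.Loc23 (Fi23Local)
open Cfsg.Agent.FischerM23 (QL QSet Data22At data_of_type22 data_image type22_of_data centralCores_of_local_simple
  Reach reach_symm)

variable {Γ : Type*} [Group Γ] [Finite Γ] {G : Type*} [Group G] [Finite G] {E : Set G} {d : Γ}
  {ψ : ↥(Subgroup.centralizer ({d} : Set Γ)) →* G} {δ : ↥(Subgroup.centralizer ({d} : Set Γ))}

/-- The component of `d` as a subset of the group it generates. -/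
def compSet (D : Set Γ) (a : Γ) : Set ↥(LocalCls.compGroup D a) := {x | (x : Γ) ∈ LocalCls.comp D a}

theorem adj_compSet {D : Set Γ} {a : Γ} {x : ↥(LocalCls.compGroup D a)} (hx : x ∈ compSet D a) :
    Subtype.val '' adj (compSet D a) x = adj D (x : Γ) := by
  ext y
  constructor
  · rintro ⟨z, ⟨hz, hne, hc⟩, rfl⟩
    exact ⟨hz.1, fun h => hne (Subtype.ext h), congrArg Subtype.val hc⟩
  · intro hy
    have hm := LocalCls.adj_sub_comp hx hy
    exact ⟨⟨y, LocalCls.mem_compGroup hm⟩,
      ⟨hm, fun h => hy.2.1 (congrArg Subtype.val h), Subtype.ext hy.2.2⟩, rfl⟩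

variable {D : Set Γ}

/-- The local groups are the centralisers. -/
theorem loc_compSet (S : LocalCls D E) {a : Γ} {x : ↥(LocalCls.compGroup D a)} (hx : x ∈ compSet D a) :
    (Loc (compSet D a) x).map (LocalCls.compGroup D a).subtype = Subgroup.centralizer ({(x : Γ)} : Set Γ) ∧
      Subgroup.centralizer ({x} : Set ↥(LocalCls.compGroup D a)) = Loc (compSet D a) x := by
  have e : (Loc (compSet D a) x).map (LocalCls.compGroup D a).subtype = Subgroup.centralizer ({(x : Γ)} : Set Γ) := by
    rw [← S.locCent _ hx.1]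
    show (Subgroup.closure _).map _ = Subgroup.closure _
    rw [MonoidHom.map_closure]
    exact congrArg Subgroup.closure (adj_compSet hx)
  refine ⟨e, le_antisymm (fun y hy => ?_) ((Subgroup.closure_le _).2 fun y hy =>
    Subgroup.mem_centralizer_singleton_iff.2 hy.2.2.symm.eq)⟩
  have h1 : (y : Γ) ∈ Subgroup.centralizer ({(x : Γ)} : Set Γ) :=
    Subgroup.mem_centralizer_singleton_iff.2 (congrArg Subtype.val (Subgroup.mem_centralizer_singleton_iff.1 hy))
  rw [← e] at h1
  obtain ⟨z, hz, ez⟩ := h1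
  rwa [show y = z from Subtype.ext ez.symm]

/-- The component is a class of 3-transpositions of its group. -/
theorem compSet_cls (S : LocalCls D E) {a : Γ} (ha : a ∈ D) :
    Cfsg.IsThreeTranspositionClass (compSet D a) := by
  refine ⟨⟨fun x hx => (Subgroup.orderOf_coe x).symm.trans (S.order _ hx.1), fun x hx y hy => ?_⟩,
    ⟨⟨a, LocalCls.mem_compGroup (LocalCls.self_mem_comp a ha)⟩, LocalCls.self_mem_comp a ha, ?_⟩,
    Subgroup.closure_closure_coe_preimage⟩
  · refine (S.reach_product hx.1 ((reach_symm hx.2).trans hy.2)).imp (fun h => ?_) (fun h => ?_) <;>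
      exact Subtype.ext (by rw [Subgroup.coe_pow, Subgroup.coe_mul]; exact h)
  · ext y
    constructor
    · intro hy
      obtain ⟨h, hh, e⟩ := S.comp_trans ha hy
      exact isConj_iff.2 ⟨⟨h, hh⟩, Subtype.ext e⟩
    · intro hy
      obtain ⟨g, e⟩ := isConj_iff.1 (show IsConj _ y from hy)
      show (y : Γ) ∈ LocalCls.comp D a
      rw [← e]
      exact S.compGroup_conj g.2 _ (LocalCls.self_mem_comp a ha)

/-- The component satisfies the local axioms of type M(23). -/
theorem compSet_local (X : M22Cover.Ext ψ δ) (hδ : (δ : Γ) = d) (hsimp : IsSimpleGroup G)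
    (S : LocalCls (conjugatesOf d) E) (M : NbrModel (conjugatesOf d) d (ext ψ) E) :
    Fi23Local (compSet (conjugatesOf d) d) := by
  set H := LocalCls.compGroup (conjugatesOf d) d with hH
  set W := compSet (conjugatesOf d) d with hW
  have hdD : d ∈ conjugatesOf d := IsConj.refl d
  have hdW : d ∈ LocalCls.comp (conjugatesOf d) d := LocalCls.self_mem_comp d hdD
  set d' : ↥H := ⟨d, LocalCls.mem_compGroup hdW⟩ with hd'
  have hd'W : d' ∈ W := hdW
  have hcls := compSet_cls S hdD
  have hG : ∀ z : G, (∀ g, Commute g z) → z = 1 := fun z h => by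
    rw [← Subgroup.mem_bot, ← S.setup.type22.1]
    exact Subgroup.mem_center_iff.2 fun g => (h g).eq
  -- the map of the local group at `d`
  set L := Loc W d' with hL
  have hLmap : L.map H.subtype = Subgroup.centralizer ({d} : Set Γ) := (loc_compSet S hd'W).1
  have hLC : ∀ y : ↥L, ((y : ↥H) : Γ) ∈ Subgroup.centralizer ({d} : Set Γ) := fun y =>
    hLmap ▸ ⟨y, y.2, rfl⟩
  let ρ : ↥L →* G := ψ.comp ((H.subtype.comp L.subtype).codRestrict _ hLC)
  have hρ : ∀ y : ↥L, ρ y = ext ψ ((y : ↥H) : Γ) := fun y => (ext_coe (⟨_, hLC y⟩ : ↥(Subgroup.centralizer _))).symm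
  have hρsurj : Function.Surjective ρ := fun g => by
    obtain ⟨c, rfl⟩ := X.surj g
    have hc : (c : Γ) ∈ L.map H.subtype := by rw [hLmap]; exact c.2
    obtain ⟨y, hy, e⟩ := hc
    exact ⟨⟨y, hy⟩, congrArg ψ (Subtype.ext e)⟩
  have hker : ρ.ker = Subgroup.center ↥L := by
    refine le_antisymm (fun y hy => ?_) fun y hy => ?_
    · rcases (X.ker _).1 hy with h | h
      · have h1 : y = 1 := Subtype.ext (Subtype.ext (show ((y : ↥H) : Γ) = 1 from congrArg Subtype.val h))
        rw [h1]; exact one_mem _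
      · have h1 : ((y : ↥H) : Γ) = d := (congrArg Subtype.val h).trans hδ
        refine Subgroup.mem_center_iff.2 fun u => Subtype.ext (Subtype.ext ?_)
        show ((u : ↥H) : Γ) * ((y : ↥H) : Γ) = ((y : ↥H) : Γ) * ((u : ↥H) : Γ)
        rw [h1]
        exact Subgroup.mem_centralizer_singleton_iff.1 (hLC u)
    · refine hG _ fun g => ?_
      obtain ⟨u, rfl⟩ := hρsurj g
      exact (show Commute u y from Subgroup.mem_center_iff.1 hy u).map ρ
  have himg : ρ '' locSet W d' = E := by
    rw [← M.image]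
    have h1 := adj_compSet hd'W
    ext e
    constructor
    · rintro ⟨y, hy, rfl⟩
      exact ⟨_, h1 ▸ ⟨(y : ↥H), hy, rfl⟩, (hρ y).symm⟩
    · rintro ⟨y, hy, rfl⟩
      obtain ⟨u, hu, rfl⟩ := h1.symm ▸ hy
      exact ⟨⟨u, Subgroup.subset_closure hu⟩, hu, hρ _⟩
  have hinj : Set.InjOn ρ (locSet W d') := fun u hu v hv e => by
    rw [hρ, hρ] at e
    exact Subtype.ext (Subtype.ext (M.inj (adj_compSet hd'W ▸ ⟨_, hu, rfl⟩) (adj_compSet hd'W ▸ ⟨_, hv, rfl⟩) e))
  -- the local quotient
  have hQ : Nonempty (QL W d' ≃* G) :=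
    ⟨(QuotientGroup.quotientMulEquivOfEq hker.symm).trans (QuotientGroup.quotientKerEquivOfSurjective ρ hρsurj)⟩
  have hQinj : Set.InjOn (toQ ↥L) (locSet W d') := fun u hu v hv e => by
    refine hinj hu hv ?_
    have h1 : u⁻¹ * v ∈ ρ.ker := hker ▸ QuotientGroup.eq.1 e
    rw [MonoidHom.mem_ker, map_mul, map_inv] at h1
    exact inv_mul_eq_one.1 h1
  obtain ⟨e⟩ := hQ
  have hsimpQ : IsSimpleGroup (QL W d') := MulEquiv.isSimpleGroup e
  have hcores : CentralCores ↥H := centralCores_of_local_simple hcls hd'W hsimpQ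
  have hne : (adj W d').Nonempty := by
    have h1 : (Subtype.val '' adj W d').Nonempty := by
      rw [adj_compSet hd'W]
      exact Set.nonempty_of_ncard_ne_zero (by rw [S.adj_ncard hdD]; norm_num)
    exact h1.of_image
  have h22 : Cfsg.IsOfTypeM22 (QL W d') (QSet W d') := by
    have hconjL := (group_of_class (loc_class hcls hcores hd'W hne)).2.1
    obtain ⟨x, y, h⟩ := data_of_type22 S.setup.type22
    rw [← himg] at h
    obtain ⟨⟨x, hx, rfl⟩, ⟨y, hy, rfl⟩, -⟩ := id h
    have h2 := (data_image hconjL ρ hinj hx hy).1 h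
    have h3 := (data_image hconjL (toQ ↥L) hQinj hx hy).2 h2
    refine type22_of_data ?_ h3
    rw [eq_bot_iff]
    intro z hz
    refine Subgroup.mem_bot.2 (e.injective ((hG _ fun g => ?_).trans (map_one e).symm))
    obtain ⟨u, rfl⟩ := e.surjective g
    exact (show Commute u z from Subgroup.mem_center_iff.1 hz u).map e
  refine ⟨hcls, hcores, ?_, ?_, ⟨d', hd'W, hne, h22⟩⟩
  · have key : ∀ {u v : Γ}, Reach (conjugatesOf d) u v → u ∈ LocalCls.comp (conjugatesOf d) d →
        ∃ (hu : u ∈ H) (hv : v ∈ H), ReflTransGen (fun p q : ↥H => p ∈ W ∧ q ∈ W ∧ Commute p q) ⟨u, hu⟩ ⟨v, hv⟩ := by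
      intro u v huv hu
      induction huv with
      | refl => exact ⟨LocalCls.mem_compGroup hu, LocalCls.mem_compGroup hu, ReflTransGen.refl⟩
      | @tail p q hup hpq ih =>
        obtain ⟨h1, h2, h3⟩ := ih
        have hp : p ∈ LocalCls.comp (conjugatesOf d) d := ⟨hpq.1, hu.2.trans hup⟩
        have hq : q ∈ LocalCls.comp (conjugatesOf d) d := LocalCls.comp_closed hp hpq.2.1 hpq.2.2
        exact ⟨h1, LocalCls.mem_compGroup hq, h3.tail ⟨hp, hq, Subtype.ext hpq.2.2⟩⟩
    intro x hx y hy
    obtain ⟨_, _, hr⟩ := key ((reach_symm hx.2).trans hy.2) hx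
    exact hr
  · rw [eq_bot_iff]
    intro z hz
    rw [Subgroup.mem_bot]
    have hzL : z ∈ L := by
      rw [hL, ← (loc_compSet S hd'W).2]
      exact Subgroup.mem_centralizer_singleton_iff.2 (Subgroup.mem_center_iff.1 hz d').symm
    have hzc : (⟨z, hzL⟩ : ↥L) ∈ ρ.ker := hker ▸ Subgroup.mem_center_iff.2 fun u =>
      Subtype.ext (Subgroup.mem_center_iff.1 hz (u : ↥H))
    rcases (X.ker _).1 hzc with h | h
    · exact Subtype.ext (show (z : Γ) = 1 from congrArg Subtype.val h)
    · exfalso
      have hzd : (z : Γ) = d := (congrArg Subtype.val h).trans hδ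
      obtain ⟨q, hq⟩ : (adj (conjugatesOf d) d).Nonempty :=
        Set.nonempty_of_ncard_ne_zero (by rw [S.adj_ncard hdD]; norm_num)
      have hdq := adj_symm hdD hq
      obtain ⟨x, hx, hxd⟩ : ∃ x ∈ adj (conjugatesOf d) q, ¬ Commute d x := by
        by_contra hno
        have hsub : adj (conjugatesOf d) q ⊆ insert d (adj (conjugatesOf d) q ∩ adj (conjugatesOf d) d) := by
          intro x hx
          by_cases e1 : x = d
          · exact Or.inl e1
          · exact Or.inr ⟨hx, hx.1, e1, by_contra fun h' => hno ⟨x, hx, h'⟩⟩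
        have h3 := (Set.ncard_le_ncard hsub (Set.toFinite _)).trans (Set.ncard_insert_le _ _)
        rw [S.adj_ncard hq.1, S.common_ncard hq.1 hdq] at h3
        omega
      have hxc := LocalCls.adj_sub_comp (LocalCls.adj_sub_comp hdW hq) hx
      have := Subgroup.mem_center_iff.1 hz ⟨x, LocalCls.mem_compGroup hxc⟩
      exact hxd (hzd ▸ (congrArg Subtype.val this).symm)

section Transfer

variable {A : Type*} [Group A] [Finite A] {DA : Set A}

/-- A class of 3-transpositions of a copy of Fi23 is of type M(23), a model being given. -/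
theorem setup_of_iso {B : Type*} [Group B] [Finite B] {DB : Set B} (SB : FischerM23.Fi23Setup DB)
    (S : Fi23Local DA) (hA : Nonempty (A ≃* Cfsg.Spor.Fi23)) : FischerM23.Fi23Setup DA := by
  obtain ⟨eA⟩ := hA
  obtain ⟨eB⟩ := FischerM23.iso_fi23 SB
  set e := eA.trans eB.symm with he
  have himg : e '' DA = DB := by
    refine FischerM23.class_unique SB ?_
    obtain ⟨⟨ho, hp⟩, ⟨x, hx, hcl⟩, hgen⟩ := S.cls
    refine ⟨⟨?_, ?_⟩, ⟨e x, ⟨x, hx, rfl⟩, ?_⟩, ?_⟩
    · rintro _ ⟨y, hy, rfl⟩
      rw [MulEquiv.orderOf_eq]; exact ho y hy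
    · rintro _ ⟨y, hy, rfl⟩ _ ⟨z, hz, rfl⟩
      exact (hp y hy z hz).imp (fun h => by rw [← map_mul, ← map_pow, h, map_one])
        (fun h => by rw [← map_mul, ← map_pow, h, map_one])
    · ext q
      obtain ⟨q, rfl⟩ := e.surjective q
      show e q ∈ e '' _ ↔ IsConj (e x) (e q)
      rw [e.injective.mem_set_image, hcl]
      refine ⟨fun h => e.toMonoidHom.map_isConj h, fun h => ?_⟩
      have h1 := e.symm.toMonoidHom.map_isConj h
      simp only [MulEquiv.coe_toMonoidHom, MulEquiv.symm_apply_apply] at h1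
      exact h1
    · have h1 := MonoidHom.map_closure e.toMonoidHom DA
      rw [hgen, Subgroup.map_top_of_surjective _ e.surjective] at h1
      exact h1.symm
  obtain ⟨x, y, h⟩ := FischerM24.data_of_type23 SB.type23
  rw [← himg] at h
  obtain ⟨⟨x, hx, rfl⟩, ⟨y, hy, rfl⟩, -⟩ := id h
  exact ⟨S.cls, S.cores, S.conn, FischerM24.type23_of_data S.center
    ((FischerM24.data23_image S.grp.2.1 e.toMonoidHom e.injective.injOn hx hy).1 h)⟩

end Transfer

end Cfsg.Agent.TransCentFi23
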