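/-
The group generated by a component of type M(23) is the whole group: the centralisers of its products of two
and of three commuting members lie inside it.
-/
import Cfsg.Agent.Lib.TransCentFi23.Group

set_option autoImplicit false
set_option linter.unusedSectionVars false

namespace Cfsg.Agent.TransCentFi23

open Cfsg.Agent.ThreeTrans
open Cfsg.Agent.FischerM23 (Fi23Setup)
open Cfsg.Agent.FischerM22 (IsProd isProd_one isProd_two isProd_three isProd_cases IsTriple)

/-- Two involutions: conjugate by an element centralising what centralises both, or with a central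
involution in the group they generate. -/
theorem dihedral {Γ : Type*} [Group Γ] [Finite Γ] {a y : Γ} (ha : a * a = 1) (hy : y * y = 1) :
    (∃ k, k * y * k⁻¹ = a ∧ ∀ z, Commute z a → Commute z y → Commute k z) ∨
    ∃ w, w ≠ 1 ∧ w * w = 1 ∧ Commute w a ∧ Commute w y ∧ (∀ z, Commute z a → Commute z y → Commute w z) ∧
      ((∃ k, k * a * k⁻¹ = w * a) ∧ (∃ k, k * y * k⁻¹ = w * y) ∨
        ∃ k, k * y * k⁻¹ = w * a ∧ ∀ z, Commute z a → Commute z y → Commute k z) := by
  set r := a * y with hr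
  have hai : a⁻¹ = a := inv_eq_of_mul_eq_one_left ha
  have hyi : y⁻¹ = y := inv_eq_of_mul_eq_one_left hy
  have hra : a * r * a⁻¹ = r⁻¹ := by
    rw [hr, mul_inv_rev, hyi, hai, ← mul_assoc a a y, ha, one_mul]
  have hry : y * r * y⁻¹ = r⁻¹ := by
    rw [hr, mul_inv_rev, hyi, hai]
    simp only [mul_assoc, hy, mul_one]
  have swap : ∀ {x : Γ} (n : ℕ), x * r * x⁻¹ = r⁻¹ → x * (r ^ n)⁻¹ = r ^ n * x := fun {x} n h => by
    have h1 : x * (r ^ n)⁻¹ * x⁻¹ = r ^ n := by
      have h2 := congrArg (fun t => (t ^ n)⁻¹) h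
      simp only [conj_pow, inv_pow, inv_inv, mul_inv_rev] at h2
      rw [mul_assoc]; exact h2
    calc x * (r ^ n)⁻¹ = x * (r ^ n)⁻¹ * x⁻¹ * x := by rw [inv_mul_cancel_right]
      _ = r ^ n * x := by rw [h1]
  have move : ∀ {x : Γ} (n : ℕ), x * r * x⁻¹ = r⁻¹ → r ^ n * x * (r ^ n)⁻¹ = r ^ (2 * n) * x := fun {x} n h => by
    rw [mul_assoc (r ^ n) x, swap n h, ← mul_assoc, ← pow_add, ← two_mul]
  have cz : ∀ {z : Γ} (n : ℕ), Commute z a → Commute z y → Commute (r ^ n) z := fun {z} n h1 h2 =>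
    ((h1.mul_right h2).pow_right n).symm
  have hn := pow_orderOf_eq_one r
  have hpos : 0 < orderOf r := (isOfFinOrder_of_finite r).orderOf_pos
  rcases Nat.even_or_odd' (orderOf r) with ⟨m, hm | hm⟩
  · right
    rw [hm] at hn hpos
    set w := r ^ m with hw
    have hww : w * w = 1 := by rw [hw, ← pow_add, ← two_mul, hn]
    have hwi : (r ^ m)⁻¹ = w := inv_eq_of_mul_eq_one_left hww
    have hwa : Commute w a := by
      have h := swap m hra
      rw [hwi] at h
      exact h.symm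
    have hwy : Commute w y := by
      have h := swap m hry
      rw [hwi] at h
      exact h.symm
    refine ⟨w, fun e => ?_, hww, hwa, hwy, fun z h1 h2 => cz m h1 h2, ?_⟩
    · have := orderOf_le_of_pow_eq_one (show 0 < m by omega) e
      omega
    rcases Nat.even_or_odd' m with ⟨l, rfl | rfl⟩
    · exact Or.inl ⟨⟨r ^ l, move l hra⟩, ⟨r ^ l, move l hry⟩⟩
    · refine Or.inr ⟨r ^ l * a, ?_, fun z h1 h2 => (cz l h1 h2).mul_left h1.symm⟩
      have h3 : a * y * a⁻¹ = r * a := by rw [hr, hai]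
      have h4 : (r * a) * r * (r * a)⁻¹ = r⁻¹ := by
        calc (r * a) * r * (r * a)⁻¹ = r * (a * r * a⁻¹) * r⁻¹ := by group
          _ = r⁻¹ := by rw [hra]; group
      calc r ^ l * a * y * (r ^ l * a)⁻¹ = r ^ l * (a * y * a⁻¹) * (r ^ l)⁻¹ := by group
        _ = r ^ (2 * l) * (r * a) := by rw [h3, move l h4]
        _ = w * a := by rw [hw, ← mul_assoc, ← pow_succ]
  · left
    rw [hm] at hn
    refine ⟨r ^ (m + 1), ?_, fun z h1 h2 => cz _ h1 h2⟩
    rw [move (m + 1) hry, show 2 * (m + 1) = (2 * m + 1) + 1 by ring, pow_add, hn, one_mul, pow_one, hr, mul_assoc, hy,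
      mul_one]

variable {Γ : Type*} [Group Γ] [Finite Γ] {G : Type*} [Group G] [Finite G] {E : Set G} {D : Set Γ} {a₀ : Γ}

/-- A maximal clique: a member is a product of pairs from it. -/
theorem maximal_even {A : Type*} [Group A] [Finite A] {DA : Set A} (S : Fi23Setup DA) {Q : Set A}
    (hQ : Q ⊆ DA) (hc : ∀ u ∈ Q, ∀ v ∈ Q, Commute u v) {a p : A} (ha : a ∈ Q) (hp : p ∈ Q) (hap : a ≠ p)
    (hmax : ∀ u ∈ DA, (∀ v ∈ Q, Commute u v) → u ∈ Q) :
    ∃ q ∈ Q, ∃ r ∈ Q, ∃ s ∈ Q, ∃ t ∈ Q, ∃ u ∈ Q, s = (a * p) * (q * r) * (t * u) := by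
  have hD := S.cls.1
  have haD := hQ ha
  have hpa : p ∈ adj DA a := ⟨hQ hp, hap.symm, hc a ha p hp⟩
  obtain ⟨q, hq, hqa, hqp⟩ : ∃ q ∈ Q, q ≠ a ∧ q ≠ p := by
    by_contra hno
    obtain ⟨z, hz1, hz2⟩ : (adj DA a ∩ adj DA p).Nonempty :=
      Set.nonempty_of_ncard_ne_zero (by rw [FischerM23.common_ncard S haD hpa]; norm_num)
    refine hno ⟨z, hmax z hz1.1 fun v hv => ?_, hz1.2.1, hz2.2.1⟩
    by_cases e1 : v = a
    · exact e1 ▸ hz1.2.2.symm
    by_cases e2 : v = p
    · exact e2 ▸ hz2.2.2.symm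
    exact absurd ⟨v, hv, e1, e2⟩ hno
  have hqA : q ∈ adj DA a := ⟨hQ hq, hqa, hc a ha q hq⟩
  obtain ⟨r, hr, hra, hrp, hrq⟩ : ∃ r ∈ Q, r ≠ a ∧ r ≠ p ∧ r ≠ q := by
    by_contra hno
    obtain ⟨z, ⟨hz1, hz2⟩, hz3⟩ : (adj DA a ∩ adj DA p ∩ adj DA q).Nonempty :=
      Set.nonempty_of_ncard_ne_zero
        (by rw [FischerM23.triple_ncard S haD hpa hqA hqp.symm (hc p hp q hq)]; norm_num)
    refine hno ⟨z, hmax z hz1.1 fun v hv => ?_, hz1.2.1, hz2.2.1, hz3.2.1⟩
    by_cases e1 : v = a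
    · exact e1 ▸ hz1.2.2.symm
    by_cases e2 : v = p
    · exact e2 ▸ hz2.2.2.symm
    by_cases e3 : v = q
    · exact e3 ▸ hz3.2.2.symm
    exact absurd ⟨v, hv, e1, e2, e3⟩ hno
  have hT : IsTriple DA p q r :=
    ⟨hQ hp, hQ hq, hQ hr, hqp.symm, hrp.symm, hrq.symm, hc p hp q hq, hc p hp r hr, hc q hq r hr⟩
  have h4 := FischerM23.four_reduce S haD hpa hqA ⟨hQ hr, hra, hc a ha r hr⟩ hT
  obtain ⟨e, -⟩ | ⟨e, -⟩ | ⟨-, s, t, u, hS, he⟩ := isProd_cases (by norm_num) le_rfl h4
  · omega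
  · omega
  obtain ⟨hs, ht, hu, n1, n2, n3, c1, c2, c3⟩ := hS
  have inQ : s ∈ Q ∧ t ∈ Q ∧ u ∈ Q := by
    have key : ∀ v ∈ Q, Commute v s ∧ Commute v t ∧ Commute v u := fun v hv =>
      (commute_mul_three_iff hD hs ht hu (hQ hv) n1 n2 n3 c1 c2 c3).1
        (he ▸ (hc v hv a ha).mul_right (((hc v hv p hp).mul_right (hc v hv q hq)).mul_right (hc v hv r hr)))
    exact ⟨hmax s hs fun v hv => (key v hv).1.symm, hmax t ht fun v hv => (key v hv).2.1.symm,
      hmax u hu fun v hv => (key v hv).2.2.symm⟩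
  refine ⟨q, hq, r, hr, s, inQ.1, t, inQ.2.1, u, inQ.2.2, ?_⟩
  calc s = (s * t * u) * (t * u) := by
        rw [mul_assoc s t u, mul_assoc s (t * u), c3.symm.mul_mul_mul_comm, mul_self hD ht, mul_self hD hu, one_mul,
          mul_one]
    _ = (a * p) * (q * r) * (t * u) := by rw [← he]; simp only [mul_assoc]

namespace LocalCls

/-- The members in the group of a component form the component. -/
theorem mem_comp_of_mem (S : LocalCls D E) (SH : Fi23Setup (compSet D a₀)) {x : Γ} (hx : x ∈ D)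
    (hxH : x ∈ compGroup D a₀) : x ∈ comp D a₀ := by
  obtain ⟨b, hb, hc⟩ := FischerM23.exists_fixed_member SH (x := (⟨x, hxH⟩ : ↥(compGroup D a₀)))
    (Subtype.ext (S.mul_self hx))
  exact comp_closed hb hx (congrArg Subtype.val hc).symm

theorem lift_pair_prod (SH : Fi23Setup (compSet D a₀)) {a b : Γ} (ha : a ∈ comp D a₀) (hb : b ∈ comp D a₀)
    (hne : a ≠ b) (hc : Commute a b) :
    IsProd (compSet D a₀) 2 (⟨a, mem_compGroup ha⟩ * ⟨b, mem_compGroup hb⟩ : ↥(compGroup D a₀)) :=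
  isProd_two (show (⟨a, mem_compGroup ha⟩ : ↥(compGroup D a₀)) ∈ compSet D a₀ from ha)
    ⟨hb, fun e => hne (congrArg Subtype.val e).symm, Subtype.ext hc⟩

/-- A product of two commuting members is not a member. -/
theorem pair_not_mem (S : LocalCls D E) (SH : Fi23Setup (compSet D a₀)) {a b : Γ} (ha : a ∈ comp D a₀)
    (hb : b ∈ comp D a₀) (hne : a ≠ b) (hc : Commute a b) : a * b ∉ D := fun h => by
  have hm := S.mem_comp_of_mem SH h (mul_mem (mem_compGroup ha) (mem_compGroup hb))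
  have h1 : (⟨a, mem_compGroup ha⟩ * ⟨b, mem_compGroup hb⟩ : ↥(compGroup D a₀)) ∈ compSet D a₀ := hm
  exact absurd (FischerM23.prod_unique SH (by norm_num) (by norm_num) (by norm_num) (by norm_num)
    (isProd_one h1) (lift_pair_prod SH ha hb hne hc)) (by norm_num)

/-- A product of three commuting members is not a member. -/
theorem triple_not_mem (S : LocalCls D E) (SH : Fi23Setup (compSet D a₀)) {a b c : Γ} (ha : a ∈ comp D a₀)
    (hb : b ∈ comp D a₀) (hc : c ∈ comp D a₀) (n1 : a ≠ b) (n2 : a ≠ c) (n3 : b ≠ c) (c1 : Commute a b)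
    (c2 : Commute a c) (c3 : Commute b c) : a * b * c ∉ D := fun h => by
  have hm := S.mem_comp_of_mem SH h (mul_mem (mul_mem (mem_compGroup ha) (mem_compGroup hb)) (mem_compGroup hc))
  have h1 : (⟨a, mem_compGroup ha⟩ * ⟨b, mem_compGroup hb⟩ * ⟨c, mem_compGroup hc⟩ : ↥(compGroup D a₀))
      ∈ compSet D a₀ := hm
  exact absurd (FischerM23.prod_unique SH (by norm_num) (by norm_num) (by norm_num) le_rfl (isProd_one h1)
    (isProd_three ⟨ha, hb, hc, fun e => n1 (congrArg Subtype.val e), fun e => n2 (congrArg Subtype.val e),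
      fun e => n3 (congrArg Subtype.val e), Subtype.ext c1, Subtype.ext c2, Subtype.ext c3⟩)) (by norm_num)

/-- What centralises the even products of a clique lies in the group of the component. -/
theorem clique_le (S : LocalCls D E) (SH : Fi23Setup (compSet D a₀)) (hc0 : a₀ ∈ D) :
    ∀ (n : ℕ) (Q : Set Γ), Nat.card Γ ≤ Q.ncard + n → Q ⊆ comp D a₀ → (∀ u ∈ Q, ∀ v ∈ Q, Commute u v) →
      ∀ a ∈ Q, ∀ b ∈ Q, a ≠ b → ∀ g : Γ, (∀ p ∈ Q, ∀ q ∈ Q, Commute g (p * q)) → g ∈ compGroup D a₀ := by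
  intro n
  induction n using Nat.strong_induction_on with
  | _ n ih =>
  intro Q hn hQ hc a ha b hb hab g hg
  by_cases hex : ∃ u ∈ comp D a₀, u ∉ Q ∧ ∀ v ∈ Q, Commute u v
  · obtain ⟨u, hu, huQ, huc⟩ := hex
    by_contra hgH
    have huD := hu.1
    set y := g * u * g⁻¹ with hy
    have hyD : y ∈ D := S.conj g u huD
    have hyW : y ∉ comp D a₀ := fun h => hgH (S.mem_of_meet hc0 hu h)
    have gfix : ∀ p ∈ Q, ∀ q ∈ Q, g * (p * q) * g⁻¹ = p * q := fun p hp q hq => by
      rw [(hg p hp q hq).eq, mul_inv_cancel_right]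
    have hycomm : ∀ p ∈ Q, ∀ q ∈ Q, Commute y (p * q) := fun p hp q hq => by
      rw [← gfix p hp q hq]
      exact ((huc p hp).mul_right (huc q hq)).map (MulAut.conj g).toMonoidHom
    have hnot : ∀ p ∈ Q, ∀ q ∈ Q, p ≠ q → y * (p * q) ∉ D := fun p hp q hq hpq h => by
      rw [← gfix p hp q hq, hy, show g * u * g⁻¹ * (g * (p * q) * g⁻¹) = g * (u * p * q) * g⁻¹ by group] at h
      have h' := S.conj g⁻¹ _ h
      rw [show g⁻¹ * (g * (u * p * q) * g⁻¹) * g⁻¹⁻¹ = u * p * q by group] at h'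
      exact S.triple_not_mem SH hu (hQ hp) (hQ hq) (fun e => huQ (e ▸ hp)) (fun e => huQ (e ▸ hq)) hpq
        (huc p hp) (huc q hq) (hc p hp q hq) h'
    have haD := (hQ ha).1
    have acomm : ∀ p ∈ Q, ∀ q ∈ Q, Commute (p * q) a := fun p hp q hq =>
      (hc p hp a ha).mul_left (hc q hq a ha)
    rcases dihedral (S.mul_self haD) (S.mul_self hyD) with ⟨k, hk, hkc⟩ | ⟨w, hw1, hww, hwa, hwy, hwc, hcase⟩
    · refine hnot a ha b hb hab ?_
      have hkab : Commute k (a * b) := hkc _ (acomm a ha b hb) (hycomm a ha b hb).symm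
      have h1 : k * (y * (a * b)) * k⁻¹ = b := by
        rw [show k * (y * (a * b)) * k⁻¹ = (k * y * k⁻¹) * (k * (a * b) * k⁻¹) by group, hk, hkab.eq,
          mul_inv_cancel_right, S.mul_self_cancel haD]
      have h2 := S.conj k⁻¹ b (hQ hb).1
      rwa [← h1, show k⁻¹ * (k * (y * (a * b)) * k⁻¹) * k⁻¹⁻¹ = y * (a * b) by group] at h2
    · set a' := w * a with ha'
      have ha'D : a' ∈ D := by
        rcases hcase with ⟨⟨k, hk⟩, -⟩ | ⟨k, hk, -⟩
        · rw [← hk]; exact S.conj k a haD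
        · rw [← hk]; exact S.conj k y hyD
      have ha'a : Commute a a' := (hwa.symm.mul_right (Commute.refl a))
      have hne' : a' ≠ a := fun e => hw1 (mul_eq_right.1 e)
      have ha'W : a' ∈ comp D a₀ := comp_closed (hQ ha) ha'D ha'a
      have hwpair : w = a' * a := by rw [ha', mul_assoc, S.mul_self haD, mul_one]
      by_cases hin : a' ∈ Q
      · rcases hcase with ⟨-, ⟨k, hk⟩⟩ | ⟨k, hk, hkc⟩
        · refine hnot a' hin a ha hne' ?_
          rw [← hwpair, ← hwy.eq, ← hk]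
          exact S.conj k y hyD
        · refine hnot a' hin a ha hne' ?_
          have hkw : Commute k (a' * a) := hkc _ (acomm a' hin a ha) (hycomm a' hin a ha).symm
          have h1 : k * (y * (a' * a)) * k⁻¹ = a := by
            rw [show k * (y * (a' * a)) * k⁻¹ = (k * y * k⁻¹) * (k * (a' * a) * k⁻¹) by group, hk, hkw.eq,
              mul_inv_cancel_right, S.mul_self_cancel ha'D]
          have h2 := S.conj k⁻¹ a haD
          rwa [← h1, show k⁻¹ * (k * (y * (a' * a)) * k⁻¹) * k⁻¹⁻¹ = y * (a' * a) by group] at h2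
      · have a'c : ∀ v ∈ Q, Commute a' v := fun v hv => by
          have h1 : Commute a' (a * v) :=
            (hwc _ (acomm a ha v hv) (hycomm a ha v hv).symm).mul_left ((acomm a ha v hv).symm)
          have h2 := ha'a.symm.mul_right h1
          rwa [S.mul_self_cancel haD] at h2
        have hQ' : insert a' Q ⊆ comp D a₀ := Set.insert_subset ha'W hQ
        have hcard : (insert a' Q).ncard = Q.ncard + 1 := Set.ncard_insert_of_notMem hin (Set.toFinite _)
        have hlt : (insert a' Q).ncard ≤ Nat.card Γ :=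
          (Set.ncard_le_ncard (Set.subset_univ _) (Set.toFinite _)).trans (Set.ncard_univ Γ).le
        refine hyW (S.mem_comp_of_mem SH hyD ?_)
        refine ih (n - 1) (by omega) (insert a' Q) (by omega) hQ' ?_ a (Or.inr ha) b (Or.inr hb) hab y ?_
        · rintro p (rfl | hp) q (rfl | hq)
          exacts [Commute.refl _, a'c q hq, (a'c p hp).symm, hc p hp q hq]
        · have hyw : ∀ q ∈ Q, Commute y (a' * q) := fun q hq => by
            rw [show a' * q = w * (a * q) by rw [ha', mul_assoc]]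
            exact hwy.symm.mul_right (hycomm a ha q hq)
          rintro p (rfl | hp) q (rfl | hq)
          · rw [S.mul_self ha'D]; exact Commute.one_right y
          · exact hyw q hq
          · rw [← (a'c p hp).eq]; exact hyw p hp
          · exact hycomm p hp q hq
  · have hex' : ∀ u ∈ compSet D a₀, (∀ v ∈ (Subtype.val ⁻¹' Q : Set ↥(compGroup D a₀)), Commute u v) →
        u ∈ (Subtype.val ⁻¹' Q : Set ↥(compGroup D a₀)) := fun u hu h => by
      by_contra hn'
      exact hex ⟨u, hu, hn', fun v hv => congrArg Subtype.val (h ⟨v, mem_compGroup (hQ hv)⟩ hv)⟩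
    obtain ⟨q, hq, r, hr, s, hs, t, ht, u, hu, e⟩ := maximal_even SH (Q := Subtype.val ⁻¹' Q)
      (fun v hv => hQ hv) (fun p hp q hq => Subtype.ext (hc _ hp _ hq))
      (a := ⟨a, mem_compGroup (hQ ha)⟩) (p := ⟨b, mem_compGroup (hQ hb)⟩) ha hb
      (fun h => hab (congrArg Subtype.val h)) hex'
    have e' : (s : Γ) = (a * b) * ((q : Γ) * r) * ((t : Γ) * u) := congrArg Subtype.val e
    refine S.centralizer_le (hQ hs) (Subgroup.mem_centralizer_singleton_iff.2 ?_)
    rw [e']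
    exact (((hg a ha b hb).mul_right (hg _ hq _ hr)).mul_right (hg _ ht _ hu)).eq

/-- The centraliser of a product of two commuting members. -/
theorem pair_le (S : LocalCls D E) (SH : Fi23Setup (compSet D a₀)) (hc0 : a₀ ∈ D) {a b g : Γ}
    (ha : a ∈ comp D a₀) (hb : b ∈ comp D a₀) (hne : a ≠ b) (hab : Commute a b) (hg : Commute g (a * b)) :
    g ∈ compGroup D a₀ := by
  refine S.clique_le SH hc0 (Nat.card Γ) {a, b} (by omega) (Set.insert_subset ha (Set.singleton_subset_iff.2 hb))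
    ?_ a (Or.inl rfl) b (Or.inr rfl) hne g ?_
  · rintro p (rfl | rfl) q (rfl | rfl)
    exacts [Commute.refl _, hab, hab.symm, Commute.refl _]
  · rintro p (rfl | rfl) q (rfl | rfl)
    · rw [S.mul_self ha.1]; exact Commute.one_right g
    · exact hg
    · rw [← hab.eq]; exact hg
    · rw [S.mul_self hb.1]; exact Commute.one_right g

/-- The centraliser of a product of three commuting members. -/
theorem triple_le (S : LocalCls D E) (SH : Fi23Setup (compSet D a₀)) (hc0 : a₀ ∈ D)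
    {a b c : ↥(compGroup D a₀)} (hT : IsTriple (compSet D a₀) a b c) {g : Γ}
    (hg : Commute g ((a * b * c : ↥(compGroup D a₀)) : Γ)) : g ∈ compGroup D a₀ := by
  obtain ⟨ha, hb, hc, n1, n2, n3, c1, c2, c3⟩ := id hT
  by_contra hgH
  have hD := SH.cls.1
  -- a fourth member
  obtain ⟨e₀, ⟨he1, he2⟩, he3⟩ : (adj (compSet D a₀) a ∩ adj (compSet D a₀) b ∩ adj (compSet D a₀) c).Nonempty :=
    Set.nonempty_of_ncard_ne_zero
      (by rw [FischerM23.triple_ncard SH ha ⟨hb, n1.symm, c1⟩ ⟨hc, n2.symm, c2⟩ n3 c3]; norm_num)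
  have he0 := he1.1
  have h4 := FischerM23.four_reduce SH he0 (FischerM22.adj_symm ha he1) (FischerM22.adj_symm hb he2)
    (FischerM22.adj_symm hc he3) hT
  obtain ⟨e', -⟩ | ⟨e', -⟩ | ⟨-, e, f, k₀, hS, hef⟩ := isProd_cases (by norm_num) le_rfl h4
  · omega
  · omega
  set z : Γ := ((a * b * c : ↥(compGroup D a₀)) : Γ) with hz
  set y := g * (a : Γ) * g⁻¹ with hy
  have hyD : y ∈ D := S.conj g _ ha.1
  have hyW : y ∉ comp D a₀ := fun h => hgH (S.mem_of_meet hc0 ha h)
  have haz : Commute (a : Γ) z :=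
    congrArg Subtype.val (((Commute.refl a).mul_right c1).mul_right c2 : Commute a (a * b * c))
  have hyz : Commute y z := by
    have h1 := haz.map (MulAut.conj g).toMonoidHom
    simp only [MulEquiv.coe_toMonoidHom, MulAut.conj_apply] at h1
    rwa [hg.eq, mul_inv_cancel_right] at h1
  have hez : Commute (e₀ : Γ) z :=
    congrArg Subtype.val ((he1.2.2.symm.mul_right he2.2.2.symm).mul_right he3.2.2.symm : Commute e₀ (a * b * c))
  rcases dihedral (S.mul_self he0.1) (S.mul_self hyD) with ⟨k, hk, hkc⟩ | ⟨w, hw1, hww, hwe, hwy, hwc, hcase⟩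
  · have hkz : Commute k z := hkc z hez.symm hyz.symm
    -- a product of two would be conjugate to a product of three
    set h := k * g with hh
    have hbc : (a : Γ) * z = ((b * c : ↥(compGroup D a₀)) : Γ) := by
      rw [hz, ← Subgroup.coe_mul, mul_assoc a b c, ThreeTrans.mul_self_cancel hD ha]
    have hconj : h * ((b * c : ↥(compGroup D a₀)) : Γ) * h⁻¹ = ((e * f * k₀ : ↥(compGroup D a₀)) : Γ) := by
      have hfix : h * z * h⁻¹ = z := by rw [(hkz.mul_left hg : Commute h z).eq, mul_inv_cancel_right]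
      rw [← hef, ← hbc, show ((e₀ * (a * b * c) : ↥(compGroup D a₀)) : Γ) = (e₀ : Γ) * z from rfl,
        show h * ((a : Γ) * z) * h⁻¹ = (h * a * h⁻¹) * (h * z * h⁻¹) by group, hfix]
      congr 1
      rw [hh, show k * g * (a : Γ) * (k * g)⁻¹ = k * y * k⁻¹ by rw [hy]; group, hk]
    have hece : Commute (e : Γ) ((e * f * k₀ : ↥(compGroup D a₀)) : Γ) :=
      congrArg Subtype.val (((Commute.refl e).mul_right hS.2.2.2.2.2.2.1).mul_right hS.2.2.2.2.2.2.2.1 :
        Commute e (e * f * k₀))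
    have hbcne : (b : Γ) ≠ c := fun h' => n3 (Subtype.ext h')
    have hback : h⁻¹ * (e : Γ) * h ∈ compGroup D a₀ := by
      refine S.pair_le SH hc0 hb hc hbcne (congrArg Subtype.val c3) ?_
      have h1 := hece.map (MulAut.conj h⁻¹).toMonoidHom
      simp only [MulEquiv.coe_toMonoidHom, MulAut.conj_apply, inv_inv] at h1
      rwa [← hconj, show h⁻¹ * (h * ((b * c : ↥(compGroup D a₀)) : Γ) * h⁻¹) * h = (b : Γ) * c by
        rw [Subgroup.coe_mul]; group] at h1
    have hbackW : h⁻¹ * (e : Γ) * h ∈ comp D a₀ := by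
      refine S.mem_comp_of_mem SH ?_ hback
      have := S.conj h⁻¹ (e : Γ) hS.1.1
      rwa [inv_inv] at this
    have hhH : h ∈ compGroup D a₀ :=
      S.mem_of_meet hc0 hbackW (by
        rw [show h * (h⁻¹ * (e : Γ) * h) * h⁻¹ = (e : Γ) by group]; exact hS.1)
    have h2 : IsProd (compSet D a₀) 2 (e * f * k₀) := by
      have h3 : (⟨h, hhH⟩ : ↥(compGroup D a₀)) * (b * c) * ⟨h, hhH⟩⁻¹ = e * f * k₀ := Subtype.ext hconj
      rw [← h3, show (⟨h, hhH⟩ : ↥(compGroup D a₀)) * (b * c) * ⟨h, hhH⟩⁻¹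
        = (⟨h, hhH⟩ * b * ⟨h, hhH⟩⁻¹) * (⟨h, hhH⟩ * c * ⟨h, hhH⟩⁻¹) by group]
      refine isProd_two (SH.conj_mem _ hb) ⟨SH.conj_mem _ hc, fun e' => n3 ?_, c3.map (MulAut.conj _).toMonoidHom⟩
      exact (mul_left_cancel (mul_right_cancel e')).symm
    exact absurd (FischerM23.prod_unique SH (by norm_num) (by norm_num) (by norm_num) le_rfl h2
      (isProd_three hS)) (by norm_num)
  · set e' := w * (e₀ : Γ) with he'
    have he'D : e' ∈ D := by
      rcases hcase with ⟨⟨k, hk⟩, -⟩ | ⟨k, hk, -⟩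
      · rw [← hk]; exact S.conj k _ he0.1
      · rw [← hk]; exact S.conj k y hyD
    have hce : Commute (e₀ : Γ) e' := hwe.symm.mul_right (Commute.refl _)
    have hne' : e' ≠ (e₀ : Γ) := fun h => hw1 (mul_eq_right.1 h)
    refine hyW (S.mem_comp_of_mem SH hyD ?_)
    refine S.pair_le SH hc0 (comp_closed he0 he'D hce) he0 hne' hce.symm ?_
    rw [he', mul_assoc, S.mul_self he0.1, mul_one]
    exact hwy.symm

/-- The component is the whole class and its group the whole group. -/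
theorem comp_eq (S : LocalCls D E) (SH : Fi23Setup (compSet D a₀)) (hc0 : a₀ ∈ D)
    (hD : ∀ x ∈ D, ∃ g : Γ, g * a₀ * g⁻¹ = x) :
    comp D a₀ = D ∧ compGroup D a₀ = ⊤ := by
  obtain ⟨b, hb⟩ : (adj D a₀).Nonempty :=
    Set.nonempty_of_ncard_ne_zero (by rw [S.adj_ncard hc0]; norm_num)
  have ha0 := self_mem_comp a₀ hc0
  have hbW := adj_sub_comp ha0 hb
  have hne : a₀ ≠ b := hb.2.1.symm
  have hsub : D ⊆ comp D a₀ := fun x hx => by
    set P := a₀ * b with hP
    have hPP : P * P = 1 := by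
      rw [hb.2.2.symm.mul_mul_mul_comm, S.mul_self hc0, S.mul_self hb.1, one_mul]
    by_contra hxW
    rcases dihedral hPP (S.mul_self hx) with ⟨k, hk, -⟩ | ⟨w, hw1, hww, hwP, hwx, -, -⟩
    · exact S.pair_not_mem SH ha0 hbW hne hb.2.2 (hP ▸ hk ▸ S.conj k x hx)
    · have hwH : w ∈ compGroup D a₀ := S.pair_le SH hc0 ha0 hbW hne hb.2.2 hwP
      obtain ⟨m, h1, h3, hm⟩ := FischerM23.involution_prod SH (x := (⟨w, hwH⟩ : ↥(compGroup D a₀)))
        (Subtype.ext hww) (fun e => hw1 (congrArg Subtype.val e))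
      refine hxW (S.mem_comp_of_mem SH hx ?_)
      rcases isProd_cases h1 h3 hm with ⟨-, hw⟩ | ⟨-, p, hp, q, hq, hw⟩ | ⟨-, p, q, r, hT, hw⟩
      · exact S.centralizer_le hw (Subgroup.mem_centralizer_singleton_iff.2 hwx.symm.eq)
      · refine S.pair_le SH hc0 hp hq.1 (fun e => hq.2.1 (Subtype.ext e.symm)) (congrArg Subtype.val hq.2.2) ?_
        rw [← Subgroup.coe_mul, ← hw]
        exact hwx.symm
      · refine S.triple_le SH hc0 hT ?_
        rw [← hw]
        exact hwx.symm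
  refine ⟨Set.Subset.antisymm (fun x hx => hx.1) hsub, eq_top_iff.2 fun g _ => ?_⟩
  exact S.mem_of_meet hc0 ha0 (hsub (S.conj g a₀ hc0))

end LocalCls

end Cfsg.Agent.TransCentFi23
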