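/-
An involution with quasisimple centraliser a double cover of a group of type M(22), not weakly closed in it:
the group is Fi23 with the class of the involution as transpositions, a model of type M(23) being given.
-/
import Cfsg.Agent.Lib.TransCentFi23.Descent
import Cfsg.Agent.Lib.FischerM22.Total

set_option autoImplicit false
set_option linter.unusedSectionVars false

namespace Cfsg.Agent.TransCentFi23

open Cfsg.Agent.ThreeTrans
open Cfsg.Agent.FischerM22

variable {G : Type*} [Group G] [Finite G]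

/-- The recognition. -/
theorem main {B : Type*} [Group B] [Finite B] {DB : Set B} (SB : FischerM23.Fi23Setup DB)
    (d : G) (hd : orderOf d = 2) (hq : Cfsg.IsQuasisimple ↥(Subgroup.centralizer ({d} : Set G)))
    [((Subgroup.zpowers d).subgroupOf (Subgroup.centralizer ({d} : Set G))).Normal]
    (htype : ∃ E : Set (↥(Subgroup.centralizer ({d} : Set G)) ⧸
        (Subgroup.zpowers d).subgroupOf (Subgroup.centralizer ({d} : Set G))),
      Cfsg.IsThreeTranspositionClass E ∧ Cfsg.IsOfTypeM22 _ E)
    (hnwc : ∃ g : G, g * d * g⁻¹ ∈ Subgroup.centralizer ({d} : Set G) ∧ g * d * g⁻¹ ≠ d) :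
    Cfsg.IsThreeTranspositionClass (conjugatesOf d) ∧ Cfsg.IsOfTypeM23 G (conjugatesOf d) ∧
      Nonempty (G ≃* Cfsg.Spor.Fi23) := by
  set Z := (Subgroup.zpowers d).subgroupOf (Subgroup.centralizer ({d} : Set G)) with hZ
  obtain ⟨E, hE, h22⟩ := htype
  have hdC : d ∈ Subgroup.centralizer ({d} : Set G) := Subgroup.mem_centralizer_singleton_iff.2 rfl
  have hd2 : d * d = 1 := by rw [← sq]; exact hd ▸ pow_orderOf_eq_one d
  have hd1 : d ≠ 1 := fun e => by rw [e, orderOf_one] at hd; omega
  have memZ : ∀ h : ↥(Subgroup.centralizer ({d} : Set G)), h ∈ Z ↔ h = 1 ∨ h = ⟨d, hdC⟩ := by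
    intro h
    rw [hZ, Subgroup.mem_subgroupOf, Subgroup.mem_zpowers_iff]
    constructor
    · rintro ⟨i, hi⟩
      rcases Int.even_or_odd i with ⟨j, rfl⟩ | ⟨j, rfl⟩
      · refine Or.inl (Subtype.ext ?_)
        rw [Subgroup.coe_one, ← hi, zpow_add, ← (Commute.refl d).mul_zpow, hd2, one_zpow]
      · refine Or.inr (Subtype.ext ?_)
        show (h : G) = d
        rw [← hi, zpow_add_one, two_mul, zpow_add, ← (Commute.refl d).mul_zpow, hd2, one_zpow, one_mul]
    · rintro (rfl | rfl)
      · exact ⟨0, by simp⟩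
      · exact ⟨1, by simp⟩
  have hcen : Z = Subgroup.center ↥(Subgroup.centralizer ({d} : Set G)) := by
    refine le_antisymm (fun h hh => ?_) fun h hh => ?_
    · rcases (memZ h).1 hh with rfl | rfl
      · exact one_mem _
      · exact Subgroup.mem_center_iff.2 fun c =>
          Subtype.ext (Subgroup.mem_centralizer_singleton_iff.1 c.2)
    · rw [← QuotientGroup.eq_one_iff, ← Subgroup.mem_bot, ← h22.1]
      refine Subgroup.mem_center_iff.2 fun c => ?_
      induction c using QuotientGroup.induction_on with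
      | _ c => exact congrArg QuotientGroup.mk (Subgroup.mem_center_iff.1 hh c)
  have hperf : commutator (↥(Subgroup.centralizer ({d} : Set G)) ⧸ Z) = ⊤ := by
    have h := hq.1.commutator_eq_top
    have := congrArg (Subgroup.map (QuotientGroup.mk' Z)) h
    rw [commutator_def, Subgroup.map_commutator,
      Subgroup.map_top_of_surjective _ (QuotientGroup.mk'_surjective Z)] at this
    exact this
  have hsimp : IsSimpleGroup (↥(Subgroup.centralizer ({d} : Set G)) ⧸ Z) := by
    haveI : IsSimpleGroup (↥(Subgroup.centralizer ({d} : Set G)) ⧸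
      Subgroup.center ↥(Subgroup.centralizer ({d} : Set G))) := hq.2
    exact MulEquiv.isSimpleGroup (QuotientGroup.quotientMulEquivOfEq hcen)
  have hsimp' : IsSimpleGroup ↥(commutator (↥(Subgroup.centralizer ({d} : Set G)) ⧸ Z)) :=
    MulEquiv.isSimpleGroup ((MulEquiv.subgroupCongr hperf).trans Subgroup.topEquiv)
  have hnonab : ∃ x y : ↥(commutator (↥(Subgroup.centralizer ({d} : Set G)) ⧸ Z)), x * y ≠ y * x := by
    by_contra hall
    push Not at hall
    obtain ⟨x, hx⟩ := exists_ne (1 : ↥(Subgroup.centralizer ({d} : Set G)) ⧸ Z)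
    apply hx
    rw [← Subgroup.mem_bot, ← h22.1, Subgroup.mem_center_iff]
    intro y
    exact congrArg Subtype.val (hall ⟨y, hperf ▸ Subgroup.mem_top y⟩ ⟨x, hperf ▸ Subgroup.mem_top x⟩)
  have F : Fi22Setup E := ⟨hE, centralCores_of_simple_derived hsimp' hnonab,
    connected_of_simple_derived hE hsimp' hnonab, h22⟩
  have X : M22Cover.Ext (QuotientGroup.mk' Z) (⟨d, hdC⟩ : ↥(Subgroup.centralizer ({d} : Set G))) :=
    ⟨QuotientGroup.mk'_surjective Z, fun e => hd1 (congrArg Subtype.val e), Subtype.ext hd2,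
      fun h => Subtype.ext (Subgroup.mem_centralizer_singleton_iff.1 h.2).symm,
      fun h => (QuotientGroup.eq_one_iff h).trans (memZ h)⟩
  obtain ⟨M, hL⟩ := local_model X F rfl hq.1.commutator_eq_top hnwc
  have S := localCls_of_base hd F M hL
  have hdD : d ∈ conjugatesOf d := IsConj.refl d
  have SL := compSet_local X rfl hsimp S M
  obtain ⟨e⟩ := Loc23.iso_of_local SL fun x hx => (loc_compSet S hx).2
  have SH := setup_of_iso SB SL ⟨e⟩
  obtain ⟨hcomp, htop⟩ := S.comp_eq SH hdD fun x hx => isConj_iff.1 hx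
  let f : ↥(LocalCls.compGroup (conjugatesOf d) d) ≃* G := (MulEquiv.subgroupCongr htop).trans Subgroup.topEquiv
  have hf : f '' compSet (conjugatesOf d) d = conjugatesOf d := by
    ext x
    constructor
    · rintro ⟨y, hy, rfl⟩
      exact hy.1
    · intro hx
      exact ⟨⟨x, htop ▸ Subgroup.mem_top x⟩, (show x ∈ LocalCls.comp (conjugatesOf d) d by rw [hcomp]; exact hx), rfl⟩
  refine ⟨⟨⟨fun x hx => S.order x hx, fun x hx y hy => ?_⟩, ⟨d, hdD, rfl⟩, hcomp ▸ htop⟩, ?_, ⟨f.symm.trans e⟩⟩
  · rw [← hcomp] at hx hy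
    exact S.reach_product hx.1 ((FischerM23.reach_symm hx.2).trans hy.2)
  · obtain ⟨x, y, h⟩ := FischerM24.data_of_type23 SH.type23
    have h' := (FischerM24.data23_image SH.grp.2.1 f.toMonoidHom f.injective.injOn h.1 h.2.1).2 h
    rw [show f.toMonoidHom '' compSet (conjugatesOf d) d = conjugatesOf d from hf] at h'
    exact FischerM24.type23_of_data (FischerM24.center_eq_bot_map f SH.type23.1) h'

end Cfsg.Agent.TransCentFi23
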