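/-
The recognition with the quotient of the centraliser given as the presented group Fi22.
-/
import Cfsg.Agent.Lib.TransCentFi23.Main
import Cfsg.Agent.Lib.FischerM22.Iso

set_option autoImplicit false
set_option linter.unusedSectionVars false

namespace Cfsg.Agent.TransCentFi23

open Cfsg.Agent.ThreeTrans
open Cfsg.Agent.FischerM23 (QL QSet)

/-- Given a model of type M(23), the presented group Fi22 has a class of type M(22). -/
theorem exists_type22 {B : Type*} [Group B] [Finite B] {DB : Set B} (SB : FischerM23.Fi23Setup DB)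
    {A : Type*} [Group A] (eA : A ≃* Cfsg.Spor.Fi22) :
    ∃ E : Set A, Cfsg.IsThreeTranspositionClass E ∧ Cfsg.IsOfTypeM22 A E := by
  obtain ⟨b, hb, -⟩ := SB.two_members
  have hS := SB.localSetup hb
  obtain ⟨e⟩ := FischerM22.iso_fi22 hS
  set f : QL DB b ≃* A := e.trans eA.symm with hf
  refine ⟨f '' QSet DB b, ?_, FischerM24.type22_map f hS.grp.2.1 hS.type22⟩
  obtain ⟨⟨ho, hp⟩, ⟨x, hx, hcl⟩, hgen⟩ := hS.cls
  refine ⟨⟨?_, ?_⟩, ⟨f x, ⟨x, hx, rfl⟩, ?_⟩, ?_⟩
  · rintro _ ⟨y, hy, rfl⟩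
    rw [MulEquiv.orderOf_eq]; exact ho y hy
  · rintro _ ⟨y, hy, rfl⟩ _ ⟨z, hz, rfl⟩
    exact (hp y hy z hz).imp (fun h => by rw [← map_mul, ← map_pow, h, map_one])
      (fun h => by rw [← map_mul, ← map_pow, h, map_one])
  · ext q
    obtain ⟨q, rfl⟩ := f.surjective q
    show f q ∈ f '' _ ↔ IsConj (f x) (f q)
    rw [f.injective.mem_set_image, hcl]
    refine ⟨fun h => f.toMonoidHom.map_isConj h, fun h => ?_⟩
    have h1 := f.symm.toMonoidHom.map_isConj h
    simp only [MulEquiv.coe_toMonoidHom, MulEquiv.symm_apply_apply] at h1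
    exact h1
  · have h1 := MonoidHom.map_closure f.toMonoidHom (QSet DB b)
    rw [hgen, Subgroup.map_top_of_surjective _ f.surjective] at h1
    exact h1.symm

/-- The group is Fi23 when the quotient of the centraliser is Fi22. -/
theorem main_presented {B : Type*} [Group B] [Finite B] {DB : Set B} (SB : FischerM23.Fi23Setup DB)
    {G : Type*} [Group G] [Finite G] (d : G) (hd : orderOf d = 2)
    (hq : Cfsg.IsQuasisimple ↥(Subgroup.centralizer ({d} : Set G)))
    [((Subgroup.zpowers d).subgroupOf (Subgroup.centralizer ({d} : Set G))).Normal]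
    (e : Cfsg.Spor.IsoFi22 (↥(Subgroup.centralizer ({d} : Set G)) ⧸
      (Subgroup.zpowers d).subgroupOf (Subgroup.centralizer ({d} : Set G))))
    (hnwc : ∃ g : G, g * d * g⁻¹ ∈ Subgroup.centralizer ({d} : Set G) ∧ g * d * g⁻¹ ≠ d) :
    Cfsg.Spor.IsoFi23 G := by
  obtain ⟨e⟩ := e
  exact (main SB d hd hq (exists_type22 SB e) hnwc).2.2

end Cfsg.Agent.TransCentFi23
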